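import Cfsg.Agent.Lib.Flavell.Members
import Cfsg.Agent.Lib.Components.FStar
import Cfsg.Agent.Lib.Components.PLayer
import Cfsg.Agent.Lib.LocalEven.Generation

/-!
Owner: helper26 (S1931). A noncyclic abelian group of coprime operators centralising the residual of the
generalised Fitting subgroup of the centraliser of each of its elements: the setting.
-/

set_option autoImplicit false
set_option linter.unusedSectionVars false
set_option linter.style.haveILetI false

namespace CfsgLib.Flavell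

open Cfsg Subgroup CfsgLib.PLocal.ZJCoprime
open scoped commutatorElement Pointwise

universe u

variable {p r : ℕ} [Fact p.Prime] {X : Type u} [Group X] [Finite X] {G R H K S : Subgroup X}

/-- The generalised Fitting subgroup, inside the ambient group. -/
def fstarOf (H : Subgroup X) : Subgroup X := (Cfsg.generalizedFittingSubgroup H).map H.subtype

/-- The layer, inside the ambient group. -/
def layOf (H : Subgroup X) : Subgroup X := (Cfsg.layer H).map H.subtype

/-- The part of `G` centralising the element `e`. -/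
def fixOf (G : Subgroup X) (e : X) : Subgroup X := G ⊓ centralizer {e}

theorem mem_fixOf {e g : X} : g ∈ fixOf G e ↔ g ∈ G ∧ g * e = e * g := by
  simp [fixOf, mem_centralizer_singleton_iff]

theorem fstarOf_le : fstarOf H ≤ H := map_subtype_le _

theorem layOf_le : layOf H ≤ H := map_subtype_le _

theorem layOf_le_fstarOf : layOf H ≤ fstarOf H := map_mono CfsgLib.Components.layer_le_gFitting

theorem normalizer_le_fstarOf : normalizer (H : Set X) ≤ normalizer (fstarOf H : Set X) :=
  haveI := CfsgLib.Components.gFitting_characteristic (G := H)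
  normalizer_le_char_map H _

theorem normalizer_le_layOf : normalizer (H : Set X) ≤ normalizer (layOf H : Set X) :=
  haveI := CfsgLib.Components.layer_characteristic (G := H)
  normalizer_le_char_map H _

theorem coreOf_le_fstarOf {q : ℕ} [Fact q.Prime] : coreOf q H ≤ fstarOf H :=
  map_mono ((CfsgLib.Core.pCore_le_fittingSubgroup q).trans CfsgLib.Components.fitting_le_gFitting)

theorem layOf_perfect : ⁅layOf H, layOf H⁆ = layOf H := by
  rw [layOf, ← Subgroup.map_commutator, CfsgLib.Components.layer_perfect]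

theorem layOf_commute {x y : X} (hx : x ∈ layOf H) {q : ℕ} [Fact q.Prime] (hy : y ∈ coreOf q H) :
    x * y = y * x := by
  obtain ⟨a, ha, rfl⟩ := hx
  obtain ⟨b, hb, rfl⟩ := hy
  have := (commutator_eq_bot_iff_le_centralizer.1 CfsgLib.Components.layer_commutes_fitting) ha
  exact congrArg Subtype.val (mem_centralizer_iff.1 this b (CfsgLib.Core.pCore_le_fittingSubgroup q hb)).symm

theorem fstarOf_self_centralizing : H ⊓ centralizer (fstarOf H : Set X) ≤ fstarOf H := fun x hx =>
  ⟨⟨x, hx.1⟩, CfsgLib.Components.centralizer_gFitting_le (mem_centralizer_iff.2 fun y hy =>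
    Subtype.ext (mem_centralizer_iff.1 hx.2 y (mem_map_of_mem H.subtype hy))), rfl⟩

/-- The generalised Fitting subgroup is generated by its core and its elements of order prime to `p`. -/
theorem fstarOf_le_of (hD : coreOf p H ≤ S)
    (h : ∀ g ∈ fstarOf H, (orderOf g).Coprime p → g ∈ S) : fstarOf H ≤ S := by
  rw [fstarOf, map_le_iff_le_comap, Cfsg.generalizedFittingSubgroup]
  refine sup_le (fun x hx => ?_) ?_
  · refine CfsgLib.Components.perfect_le_of_coprime (p := p) (C := S.comap H.subtype)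
      CfsgLib.Components.layer_perfect (fun y hy hc => ?_) hx
    exact h _ (mem_map_of_mem _ (CfsgLib.Components.layer_le_gFitting hy)) (by
      rwa [coe_subtype, Subgroup.orderOf_coe])
  · rw [CfsgLib.Core.fittingSubgroup_eq_iSup_pCore]
    refine iSup_le fun q => ?_
    haveI := Fact.mk q.2
    intro y hy
    rcases eq_or_ne (q : ℕ) p with e | e
    · exact hD (mem_map_of_mem _ (e ▸ hy))
    refine h _ (mem_map_of_mem _
      (CfsgLib.Components.fitting_le_gFitting (CfsgLib.Core.pCore_le_fittingSubgroup _ hy))) ?_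
    obtain ⟨k, hk⟩ := CfsgLib.Core.isPGroup_pCore (q : ℕ) H ⟨y, hy⟩
    have hk' : (y : X) ^ (q : ℕ) ^ k = 1 := congrArg (fun z : Cfsg.pCore (q : ℕ) H => ((z : H) : X)) hk
    rw [coe_subtype]
    exact Nat.Coprime.coprime_dvd_left (orderOf_dvd_of_pow_eq_one hk')
      (((Nat.coprime_primes q.2 Fact.out).2 e).pow_left k)

/-- The setting. -/
structure Sit (p r : ℕ) (G R : Subgroup X) : Prop where
  hp5 : 5 ≤ p
  hr : r.Prime
  card : Nat.card R = r ^ 2
  exp : ∀ a ∈ R, a ^ r = 1
  comm : ∀ a ∈ R, ∀ b ∈ R, a * b = b * a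
  norm : R ≤ normalizer (G : Set X)
  ndvd : ¬ r ∣ Nat.card G
  hyp : ∀ a ∈ R, a ≠ 1 → ∀ g ∈ fstarOf (fixOf G a), (orderOf g).Coprime p → g ∈ centralizer (R : Set X)
  full : ⁅G, R⁆ = G
  centre : G ⊓ centralizer (G : Set X) = ⊥

variable (h : Sit p r G R)
include h

theorem Sit.coprime_card (hK : K ≤ G) : (Nat.card R).Coprime (Nat.card K) := by
  rw [h.card]
  exact (((h.hr.coprime_iff_not_dvd).2 h.ndvd).coprime_dvd_right (card_dvd_of_le hK)).pow_left 2

theorem Sit.solvableR : Group.IsSolvable R :=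
  Group.isSolvable_of_comm fun a b => Subtype.ext (h.comm a a.2 b b.2)

theorem Sit.setup (hK : K ≤ G) (hKn : R ≤ normalizer (K : Set X)) : Setup p K R :=
  ⟨h.hp5, hKn, h.coprime_card hK⟩

theorem Sit.exists_gen {e : X} (he : e ∈ R) (he1 : e ≠ 1) :
    ∃ a ∈ R, a ≠ 1 ∧ R ≤ zpowers e ⊔ zpowers a := by
  haveI := Fact.mk h.hr
  have hce : Nat.card (zpowers e) = r := by
    rw [Nat.card_zpowers]; exact orderOf_eq_prime (h.exp e he) he1
  obtain ⟨a, ha, hae⟩ : ∃ a ∈ R, a ∉ zpowers e := by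
    by_contra hc
    push Not at hc
    have := Nat.le_of_dvd Nat.card_pos (card_dvd_of_le (show R ≤ zpowers e from hc))
    rw [h.card, hce] at this
    nlinarith [h.hr.two_le]
  refine ⟨a, ha, fun e1 => hae (e1 ▸ one_mem _), ?_⟩
  have hle : zpowers e ⊔ zpowers a ≤ R := sup_le (zpowers_le.2 he) (zpowers_le.2 ha)
  have hlt : r < Nat.card (zpowers e ⊔ zpowers a : Subgroup X) := by
    rw [← hce]
    exact Set.Finite.card_lt_card (Set.toFinite _) (SetLike.coe_ssubset_coe.2
      (lt_of_le_of_ne le_sup_left fun e1 => hae (e1.ge (mem_sup_right (mem_zpowers a)))))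
  obtain ⟨i, hi, hic⟩ := (Nat.dvd_prime_pow h.hr).1 (h.card ▸ card_dvd_of_le hle)
  refine (Subgroup.eq_of_le_of_card_ge hle ?_).ge
  rw [h.card, hic]
  rw [hic] at hlt
  exact Nat.pow_le_pow_right h.hr.pos ((Nat.pow_lt_pow_iff_right h.hr.one_lt).1 (by simpa using hlt : r ^ 1 < r ^ i))

omit h in
theorem fixed_of_gen {e a x : X} (hR : R ≤ zpowers e ⊔ zpowers a) (he : x * e = e * x) (ha : x * a = a * x) :
    x ∈ centralizer (R : Set X) := by
  refine mem_centralizer_iff.2 fun y hy => ?_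
  have h1 : zpowers e ⊔ zpowers a ≤ centralizer ({x} : Set X) :=
    sup_le (zpowers_le.2 (mem_centralizer_singleton_iff.2 he.symm))
      (zpowers_le.2 (mem_centralizer_singleton_iff.2 ha.symm))
  exact mem_centralizer_singleton_iff.1 (h1 (hR hy))

/-- Generation by the fixed points of the nontrivial operators. -/
theorem Sit.le_of_fixed (hK : K ≤ G) (hKn : R ≤ normalizer (K : Set X))
    (hS : ∀ a ∈ R, a ≠ 1 → K ⊓ centralizer ({a} : Set X) ≤ S) : K ≤ S := by
  haveI := Fact.mk h.hr
  haveI : IsMulCommutative R := ⟨⟨fun a b => Subtype.ext (h.comm a a.2 b b.2)⟩⟩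
  exact CfsgLib.LocalEven.le_of_centralizers_le h.exp h.card.ge hKn
    (fun hd => h.ndvd (hd.trans (card_dvd_of_le hK))) hS

omit h in
theorem centralizing_le_fixOf {e : X} (he : e ∈ R) : G ⊓ centralizer (R : Set X) ≤ fixOf G e :=
  fun _ hg => mem_fixOf.2 ⟨hg.1, (mem_centralizer_iff.1 hg.2 e he).symm⟩

theorem Sit.normalizes_fix {e : X} (he : e ∈ R) : R ≤ normalizer (centralizer ({e} : Set X) : Set X) :=
  le_normalizer_of_conj_mem fun a ha x hx => by
    rw [mem_centralizer_singleton_iff] at hx ⊢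
    have e1 := h.comm a ha e he
    have e2 : a⁻¹ * e = e * a⁻¹ := (show Commute a e from e1).inv_left.eq
    calc a * x * a⁻¹ * e = a * (x * e) * a⁻¹ := by rw [mul_assoc, e2]; group
      _ = (a * e) * x * a⁻¹ := by rw [hx]; group
      _ = e * (a * x * a⁻¹) := by rw [e1]; group

theorem Sit.normalizes_fixOf {e : X} (he : e ∈ R) : R ≤ normalizer (fixOf G e : Set X) :=
  (le_inf h.norm (h.normalizes_fix he)).trans inf_normalizer_le_normalizer_inf

omit h in
theorem conj_mem {N : Subgroup X} {g x : X} (hg : g ∈ normalizer (N : Set X)) (hx : x ∈ N) :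
    g * x * g⁻¹ ∈ N := (mem_normalizer_iff.1 hg x).1 hx

omit h in
theorem conj_mem' {N : Subgroup X} {g x : X} (hg : g ∈ normalizer (N : Set X)) (hx : x ∈ N) :
    g⁻¹ * x * g ∈ N := (mem_normalizer_iff''.1 hg x).1 hx

omit h in
theorem coprime_conj {g x : X} (hx : (orderOf x).Coprime p) : (orderOf (g * x * g⁻¹)).Coprime p := by
  rwa [show g * x * g⁻¹ = MulAut.conj g x from rfl, MulEquiv.orderOf_eq]

/-- A `p`-subgroup invariant under the operators and normalised by their centraliser lies in the meet of the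
invariant Sylow subgroups. -/
theorem Sit.mem_invInter_of (hKG : K ≤ G) (hKn : R ≤ normalizer (K : Set X)) {Q : Subgroup X} (hQK : Q ≤ K)
    (hQ : IsPGroup p Q) (hQR : R ≤ normalizer (Q : Set X))
    (hQC : K ⊓ centralizer (R : Set X) ≤ normalizer (Q : Set X)) : Q ≤ invInter p K R := fun x hx =>
  mem_invInter.2 fun S hS => by
    have hcop := h.coprime_card hKG
    obtain ⟨S0, hQS, hS0⟩ := CfsgLib.Core.exists_invariant_sylow_ge hKn hcop (Or.inl h.solvableR) hQK hQ hQR
    obtain ⟨c, hc, rfl⟩ := CfsgLib.Core.invariant_sylow_conj hKn hcop (Or.inl h.solvableR) S0 S hS0 hS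
    rw [← CfsgLib.Core.sylow_map_conj_smul, CfsgLib.Core.mem_conj_smul_iff]
    have := conj_mem' (hQC ⟨c.2, hc⟩) hx
    exact hQS (by simpa using this)

theorem Sit.inter_eq (hKG : K ≤ G) (hKn : R ≤ normalizer (K : Set X)) (hCK : G ⊓ centralizer (R : Set X) ≤ K) :
    invInter p G R ⊓ K = invInter p K R := by
  have hs := h.setup hKG hKn
  have hs' := h.setup le_rfl h.norm
  refine le_antisymm (h.mem_invInter_of hKG hKn inf_le_right (hs'.invInter_isPGroup.to_le inf_le_left)
    ((le_inf hs'.le_normalizer_invInter hKn).trans inf_normalizer_le_normalizer_inf) ?_) (le_inf ?_ hs.invInter_le)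
  · exact (le_inf ((inf_le_inf_right _ hKG).trans hs'.centralizing_le_normalizer_invInter)
      (inf_le_left.trans le_normalizer)).trans inf_normalizer_le_normalizer_inf
  · refine h.mem_invInter_of le_rfl h.norm (hs.invInter_le.trans hKG) hs.invInter_isPGroup
      hs.le_normalizer_invInter ?_
    exact (le_inf hCK inf_le_right).trans hs.centralizing_le_normalizer_invInter

/-- Cores of invariant subgroups containing the fixed points lie in the meet. -/
theorem Sit.coreOf_le_meet (hKG : K ≤ G) (hKn : R ≤ normalizer (K : Set X))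
    (hCK : G ⊓ centralizer (R : Set X) ≤ K) : coreOf p K ≤ invInter p G R :=
  h.mem_invInter_of le_rfl h.norm (coreOf_le.trans hKG) coreOf_isPGroup (hKn.trans normalizer_le_coreOf)
    ((hCK.trans le_normalizer).trans normalizer_le_coreOf)

/-- Elements of order prime to `p` centralising the core of a fixed-point group are fixed, and commute with its
commutators with the operators. -/
theorem Sit.l0 {e t : X} (he : e ∈ R) (he1 : e ≠ 1) (ht : t ∈ fixOf G e) (htp : (orderOf t).Coprime p)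
    (hD : ∀ d ∈ coreOf p (fixOf G e), d * t = t * d) :
    t ∈ centralizer (R : Set X) ∧ ∀ k ∈ fixOf G e, ∀ ρ ∈ R, t * ⁅k, ρ⁆ = ⁅k, ρ⁆ * t := by
  set H := fixOf G e with hH
  have hRH : R ≤ normalizer (H : Set X) := h.normalizes_fixOf he
  have hyp := h.hyp e he he1
  suffices key : ∀ t : X, t ∈ H → (orderOf t).Coprime p → (∀ d ∈ coreOf p H, d * t = t * d) →
      t ∈ centralizer (R : Set X) by
    refine ⟨key t ht htp hD, fun k hk ρ hρ => ?_⟩
    have hfix : k⁻¹ * t * k ∈ centralizer (R : Set X) := by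
      refine key _ (H.mul_mem (H.mul_mem (H.inv_mem hk) ht) hk) ?_ fun d hd => ?_
      · have := coprime_conj (g := k⁻¹) htp
        rwa [inv_inv] at this
      · have := hD _ (conj_mem (normalizer_le_coreOf (le_normalizer hk)) hd)
        calc d * (k⁻¹ * t * k) = k⁻¹ * ((k * d * k⁻¹) * t) * k := by group
          _ = k⁻¹ * (t * (k * d * k⁻¹)) * k := by rw [this]
          _ = _ := by group
    have e1 := mem_centralizer_iff.1 hfix ρ hρ
    have e2 := mem_centralizer_iff.1 (key t ht htp hD) ρ hρ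
    simp only [commutatorElement_def]
    calc t * (k * ρ * k⁻¹ * ρ⁻¹) = k * ((k⁻¹ * t * k) * ρ) * k⁻¹ * ρ⁻¹ := by group
      _ = k * (ρ * (k⁻¹ * t * k)) * k⁻¹ * ρ⁻¹ := by rw [e1]
      _ = k * ρ * k⁻¹ * (t * ρ⁻¹) := by group
      _ = k * ρ * k⁻¹ * (ρ⁻¹ * t) := by rw [(show Commute ρ t from e2).inv_left.eq]
      _ = _ := by group
  intro t ht htp hD
  set F := fstarOf H with hF
  set Z := F ⊓ centralizer (F : Set X) with hZ
  have hRF : R ≤ normalizer (F : Set X) := hRH.trans normalizer_le_fstarOf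
  have hRZ : R ≤ normalizer (Z : Set X) :=
    (le_inf hRF (hRF.trans (normalizer_le_centralizer' F))).trans inf_normalizer_le_normalizer_inf
  have hx : ∀ t' : X, t' ∈ H → (∀ d ∈ coreOf p H, d * t' = t' * d) → ∀ ρ ∈ R, ⁅t', ρ⁆ ∈ Z := by
    intro t' ht' hD' ρ hρ
    have hxH : ⁅t', ρ⁆ ∈ H := by
      rw [show ⁅t', ρ⁆ = t' * (ρ * t'⁻¹ * ρ⁻¹) by simp only [commutatorElement_def]; group]
      exact H.mul_mem ht' (conj_mem (hRH hρ) (H.inv_mem ht'))
    have hcen : F ≤ centralizer ({⁅t', ρ⁆} : Set X) := by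
      refine fstarOf_le_of (p := p) (fun d hd => mem_centralizer_singleton_iff.2 ?_)
        fun g hg hc => mem_centralizer_singleton_iff.2 ?_
      · have e1 := hD' d hd
        have e2 := hD' _ (conj_mem' (hRH.trans normalizer_le_coreOf hρ) hd)
        simp only [commutatorElement_def]
        calc d * (t' * ρ * t'⁻¹ * ρ⁻¹) = (d * t') * ρ * t'⁻¹ * ρ⁻¹ := by group
          _ = t' * ρ * ((ρ⁻¹ * d * ρ) * t'⁻¹) * ρ⁻¹ := by rw [e1]; group
          _ = t' * ρ * (t'⁻¹ * (ρ⁻¹ * d * ρ)) * ρ⁻¹ := by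
            rw [(show Commute (ρ⁻¹ * d * ρ) t' from e2).inv_right.eq]
          _ = _ := by group
      · have e1 := mem_centralizer_iff.1 (hyp g hg hc) ρ hρ
        have hg' : t'⁻¹ * g * t' ∈ F := conj_mem' (normalizer_le_fstarOf (le_normalizer ht')) hg
        have e2 := mem_centralizer_iff.1 (hyp _ hg' (by simpa using coprime_conj (g := t'⁻¹) hc)) ρ hρ
        simp only [commutatorElement_def]
        calc g * (t' * ρ * t'⁻¹ * ρ⁻¹) = t' * ((t'⁻¹ * g * t') * ρ) * t'⁻¹ * ρ⁻¹ := by group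
          _ = t' * (ρ * (t'⁻¹ * g * t')) * t'⁻¹ * ρ⁻¹ := by rw [e2]
          _ = t' * ρ * t'⁻¹ * (g * ρ⁻¹) := by group
          _ = t' * ρ * t'⁻¹ * (ρ⁻¹ * g) := by rw [(show Commute ρ g from e1).inv_left.eq]
          _ = _ := by group
    have hc' : ⁅t', ρ⁆ ∈ centralizer (F : Set X) :=
      mem_centralizer_iff.2 fun g hg => mem_centralizer_singleton_iff.1 (hcen hg)
    exact ⟨fstarOf_self_centralizing ⟨hxH, hc'⟩, hc'⟩
  have hZH : Z ≤ H := inf_le_left.trans fstarOf_le
  obtain ⟨n, hn, hfix⟩ := CfsgLib.Core.exists_centralizing_in_coset (k := t) hRZ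
    (h.coprime_card (hZH.trans inf_le_left)) (Or.inl h.solvableR) (fun ρ hρ => by
      have := hx t⁻¹ (H.inv_mem ht) (fun d hd => ((show Commute d t from hD d hd).inv_right).eq) ρ hρ
      simpa [commutatorElement_def, mul_assoc] using this)
  refine mem_centralizer_iff.2 fun ρ hρ => ?_
  have hcz : ∀ x ∈ Z, ∀ y ∈ Z, x * y = y * x := fun x hx' y hy => mem_centralizer_iff.1 hy.2 x hx'.1
  set w := n * (ρ * n⁻¹ * ρ⁻¹) with hw
  have hwZ : w ∈ Z := Z.mul_mem hn (conj_mem (hRZ hρ) (Z.inv_mem hn))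
  obtain ⟨k, hk⟩ := CfsgLib.Transfer.exists_pow_prime_pow_coprime (p := p) n
  have hwk : w ^ p ^ k = 1 := by
    rw [hw, (show Commute n (ρ * n⁻¹ * ρ⁻¹) from hcz _ hn _ (conj_mem (hRZ hρ) (Z.inv_mem hn))).mul_pow,
      conj_pow, inv_pow]
    have e1 := mem_centralizer_iff.1 (hyp _ (Subgroup.pow_mem _ hn.1 _) hk) ρ hρ
    rw [(show Commute ρ (n ^ p ^ k) from e1).inv_right.eq, mul_inv_cancel_right, mul_inv_cancel]
  have hwD : w ∈ coreOf p H := by
    haveI : IsMulCommutative Z := ⟨⟨fun x y => Subtype.ext (hcz x x.2 y y.2)⟩⟩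
    have hmem : w ∈ coreOf p Z := by
      haveI : (zpowers (⟨w, hwZ⟩ : Z)).Normal := ⟨fun x hx' g => by rwa [mul_comm' g x, mul_inv_cancel_right]⟩
      refine mem_map.2 ⟨⟨w, hwZ⟩, CfsgLib.Core.le_pCore (p := p) ?_ (mem_zpowers _), rfl⟩
      rintro ⟨z, hz⟩
      obtain ⟨i, rfl⟩ := mem_zpowers_iff.1 hz
      refine ⟨k, Subtype.ext (Subtype.ext ?_)⟩
      simp only [SubmonoidClass.coe_pow, SubgroupClass.coe_zpow, coe_one]
      rw [← zpow_natCast, ← zpow_mul, mul_comm, zpow_mul, zpow_natCast, hwk, one_zpow]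
    refine le_pCore_map (coreOf_le.trans hZH) ?_ coreOf_isPGroup hmem
    exact ((le_inf (le_normalizer.trans normalizer_le_fstarOf)
      ((le_normalizer.trans normalizer_le_fstarOf).trans (normalizer_le_centralizer' F))).trans
      inf_normalizer_le_normalizer_inf).trans normalizer_le_coreOf
  have hconj : ρ * t * ρ⁻¹ = t * w := by
    rw [hw]
    calc ρ * t * ρ⁻¹ = (ρ * (t * n)) * (n⁻¹ * ρ⁻¹) := by group
      _ = (t * n * ρ) * (n⁻¹ * ρ⁻¹) := by rw [mem_centralizer_iff.1 hfix ρ hρ]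
      _ = _ := by group
  have hpow := congrArg (· ^ orderOf t) hconj
  simp only [conj_pow, pow_orderOf_eq_one, mul_one, mul_inv_cancel,
    (show Commute t w from (hD w hwD).symm).mul_pow, one_mul] at hpow
  rw [eq_one_of_pow_coprime coreOf_isPGroup hwD htp hpow.symm, mul_one] at hconj
  exact mul_inv_eq_iff_eq_mul.1 hconj

/-- A fixed element of order prime to `p` centralising the meet of the invariant Sylow subgroups is trivial. -/
theorem Sit.star {t : X} (ht : t ∈ G ⊓ centralizer (R : Set X)) (htp : (orderOf t).Coprime p)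
    (hP : ∀ x ∈ invInter p G R, x * t = t * x) : t = 1 := by
  set C := G ⊓ centralizer (R : Set X) with hC
  set M := closure {c : X | ∃ e ∈ R, e ≠ 1 ∧ ∃ k ∈ fixOf G e, ∃ ρ ∈ R, c = ⁅k, ρ⁆} with hM
  have hn : ∀ g : X, (∀ ρ ∈ R, g * ρ * g⁻¹ = ρ) → (∀ e ∈ R, ∀ k ∈ fixOf G e, g * k * g⁻¹ ∈ fixOf G e) →
      ∀ x ∈ M, g * x * g⁻¹ ∈ M := by
    intro g hg hg' x hx
    suffices hsub : M ≤ M.comap (MulAut.conj g).toMonoidHom from hsub hx
    refine (closure_le _).2 ?_
    rintro _ ⟨e, he, he1, k, hk, ρ, hρ, rfl⟩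
    refine subset_closure ⟨e, he, he1, g * k * g⁻¹, hg' e he k hk, ρ, hρ, ?_⟩
    show g * ⁅k, ρ⁆ * g⁻¹ = ⁅g * k * g⁻¹, ρ⁆
    conv_rhs => rw [← hg ρ hρ]
    simp only [commutatorElement_def]; group
  have hRM : R ≤ normalizer (M : Set X) := le_normalizer_of_conj_mem fun g hg x hx =>
    hn g (fun ρ hρ => by rw [h.comm g hg ρ hρ, mul_inv_cancel_right])
      (fun e he k hk => conj_mem (h.normalizes_fixOf he hg) hk) x hx
  have hCM : C ≤ normalizer (M : Set X) := le_normalizer_of_conj_mem fun g hg x hx =>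
    hn g (fun ρ hρ => by rw [← mem_centralizer_iff.1 hg.2 ρ hρ, mul_inv_cancel_right])
      (fun e he k hk => conj_mem (le_normalizer (centralizing_le_fixOf he hg)) hk) x hx
  have hGM : G ≤ C ⊔ M := h.le_of_fixed le_rfl h.norm fun e he he1 => by
    show fixOf G e ≤ _
    conv_lhs => rw [← CfsgLib.Core.commutator_sup_centralizer (h.normalizes_fixOf he)
      (h.coprime_card inf_le_left) (Or.inl h.solvableR)]
    refine sup_le ((commutator_le.2 fun k hk ρ hρ => ?_ : ⁅fixOf G e, R⁆ ≤ M).trans le_sup_right)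
      ((inf_le_inf_right _ inf_le_left).trans le_sup_left)
    exact subset_closure ⟨e, he, he1, k, hk, ρ, hρ, rfl⟩
  have hle : G ≤ M := by
    rw [← h.full]
    refine commutator_le.2 fun g hg ρ hρ => ?_
    obtain ⟨c, hc, m, hm, rfl⟩ := (CfsgLib.Core.mem_sup_iff_mul hCM).1 (hGM hg)
    have e1 := mem_centralizer_iff.1 hc.2 ρ hρ
    rw [show ⁅c * m, ρ⁆ = c * (m * (ρ * m⁻¹ * ρ⁻¹)) * c⁻¹ * ⁅c, ρ⁆ by simp only [commutatorElement_def]; group,
      commutatorElement_eq_one_iff_mul_comm.2 e1.symm, mul_one]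
    exact conj_mem (hCM hc) (M.mul_mem hm (conj_mem (hRM hρ) (M.inv_mem hm)))
  have hMt : M ≤ centralizer ({t} : Set X) := (closure_le _).2 (by
    rintro _ ⟨e, he, he1, k, hk, ρ, hρ, rfl⟩
    refine mem_centralizer_singleton_iff.2 ((h.l0 he he1 (centralizing_le_fixOf he ht) htp fun d hd => ?_).2
      k hk ρ hρ).symm
    exact hP d (h.coreOf_le_meet inf_le_left (h.normalizes_fixOf he) (centralizing_le_fixOf he) hd))
  have : t ∈ G ⊓ centralizer (G : Set X) :=
    ⟨ht.1, mem_centralizer_iff.2 fun g hg => mem_centralizer_singleton_iff.1 (hMt (hle hg))⟩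
  rwa [h.centre, mem_bot] at this

end CfsgLib.Flavell
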