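import Cfsg.Agent.Lib.Flavell.Auto.Local
import Cfsg.Agent.Lib.Flavell.Main
import Cfsg.Agent.Lib.PGroups.Basic
import Cfsg.Agent.Lib.OddLocal.Final.OddOrder

/-!
Owner: helper26 (S1931). The faithful invariant subgroups have trivial layer.
-/

set_option autoImplicit false
set_option linter.unusedSectionVars false
set_option linter.style.haveILetI false
set_option linter.unusedVariables false

namespace CfsgLib.Flavell

open Cfsg Subgroup CfsgLib.PLocal.ZJCoprime
open scoped commutatorElement Pointwise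

universe u

variable {p r : ℕ} [Fact p.Prime] {X : Type u} [Group X] [Finite X] {G R H : Subgroup X}

theorem layer_layOf : Cfsg.layer (layOf H) = ⊤ := by
  have h1 : Cfsg.layer (Cfsg.layer H) = ⊤ := by
    apply map_injective (Cfsg.layer H).subtype_injective
    rw [CfsgLib.Components.map_layer_eq_of_layer_le CfsgLib.Components.layer_normal.isSubnormal le_rfl,
      ← MonoidHom.range_eq_map, range_subtype]
  show Cfsg.layer ((Cfsg.layer H).map H.subtype : Subgroup X) = ⊤
  rw [← CfsgLib.Components.layer_map_equiv ((Cfsg.layer H).equivMapOfInjective H.subtype H.subtype_injective), h1]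
  exact map_top_of_surjective _ (MulEquiv.surjective _)

/-- A subgroup of two-power index and a Sylow `2`-subgroup factorise the group. -/
theorem exists_mul_of_two_index {Y : Type u} [Group Y] [Finite Y] (B : Subgroup Y) (S : Sylow 2 Y)
    (hidx : ∀ q : ℕ, q.Prime → q ≠ 2 → ¬ q ∣ B.index) : ∀ g : Y, ∃ s ∈ (S : Subgroup Y), s⁻¹ * g ∈ B := by
  haveI : Fact (Nat.Prime 2) := ⟨Nat.prime_two⟩
  have hdiv : B.index ∣ (B.subgroupOf (S : Subgroup Y)).index := by
    set J := B.subgroupOf (S : Subgroup Y) with hJ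
    obtain ⟨n, hn⟩ := S.isPGroup'.exists_card_eq
    obtain ⟨j, hj, hJc⟩ := (Nat.dvd_prime_pow Nat.prime_two).1 (hn ▸ card_subgroup_dvd_card J)
    have hle : J.map (S : Subgroup Y).subtype ≤ B := by
      rintro x ⟨y, hy, rfl⟩
      exact hy
    have hcard : Nat.card (J.map (S : Subgroup Y).subtype : Subgroup Y) = Nat.card J :=
      Subgroup.card_map_of_injective (S : Subgroup Y).subtype_injective
    have hJB : Nat.card J ∣ Nat.card B := hcard ▸ card_dvd_of_le hle
    have hSi : (Nat.card J * B.index).Coprime (S : Subgroup Y).index := by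
      refine Nat.coprime_of_dvd fun q hq hd hd' => ?_
      have : q = 2 := by
        rcases (Nat.Prime.dvd_mul hq).1 hd with e | e
        · exact (Nat.prime_dvd_prime_iff_eq hq Nat.prime_two).1 (hq.dvd_of_dvd_pow (hJc ▸ e))
        · by_contra hq2; exact hidx q hq hq2 e
      subst this
      exact S.not_dvd_index hd'
    have h1 : Nat.card J * B.index ∣ Nat.card (S : Subgroup Y) * (S : Subgroup Y).index := by
      rw [card_mul_index]
      exact (Nat.mul_dvd_mul_right hJB _).trans (B.card_mul_index ▸ dvd_rfl)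
    have h2 := hSi.dvd_of_dvd_mul_right h1
    rw [← J.card_mul_index] at h2
    exact (Nat.mul_dvd_mul_iff_left Nat.card_pos).1 h2
  intro g
  have hst : MulAction.stabilizer (S : Subgroup Y) ((1 : Y) : Y ⧸ B) = B.subgroupOf (S : Subgroup Y) := by
    ext s
    rw [MulAction.mem_stabilizer_iff, mem_subgroupOf]
    show ((((s : Y) * 1 : Y)) : Y ⧸ B) = _ ↔ _
    rw [mul_one, QuotientGroup.eq, mul_one, inv_mem_iff]
  have h1 := MulAction.index_stabilizer (S : Subgroup Y) ((1 : Y) : Y ⧸ B)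
  rw [hst] at h1
  have h2 : MulAction.orbit (S : Subgroup Y) ((1 : Y) : Y ⧸ B) = Set.univ :=
    Set.eq_of_subset_of_ncard_le (Set.subset_univ _) (by
      rw [Set.ncard_univ, ← h1, ← Subgroup.index_eq_card]
      exact Nat.le_of_dvd (Nat.pos_of_ne_zero index_ne_zero_of_finite) hdiv) (Set.toFinite _)
  obtain ⟨s, hs⟩ := (h2.symm ▸ Set.mem_univ ((g : Y ⧸ B)) :
    (g : Y ⧸ B) ∈ MulAction.orbit (S : Subgroup Y) ((1 : Y) : Y ⧸ B))
  refine ⟨s, s.2, QuotientGroup.eq.1 ?_⟩
  rw [← hs]
  show ((s : Y) : Y ⧸ B) = (((s : Y) * 1 : Y) : Y ⧸ B)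
  rw [mul_one]

/-- A normal subgroup containing the centre of a Sylow `2`-subgroup has centraliser of odd order. -/
theorem odd_centralizer_of_centre_le {Y : Type u} [Group Y] [Finite Y] (S : Sylow 2 Y) (M : Subgroup Y)
    [M.Normal] (hM : ∀ z ∈ (S : Subgroup Y), (∀ s ∈ (S : Subgroup Y), s * z = z * s) → z ∈ M)
    (hcore : Cfsg.pCore 2 Y = ⊥) : Odd (Nat.card (centralizer (M : Set Y))) := by
  haveI : Fact (Nat.Prime 2) := ⟨Nat.prime_two⟩
  rw [Nat.odd_iff]
  by_contra hd
  obtain ⟨t, ht⟩ := exists_prime_orderOf_dvd_card' 2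
    (Nat.dvd_of_mod_eq_zero (by omega) : 2 ∣ Nat.card (centralizer (M : Set Y)))
  have htp : IsPGroup 2 (zpowers (t : Y)) := IsPGroup.of_card (n := 1) (by
    rw [Nat.card_zpowers, Subgroup.orderOf_coe, ht, pow_one])
  obtain ⟨T, hT⟩ := htp.exists_le_sylow
  obtain ⟨g, hg⟩ := MulAction.exists_smul_eq Y T S
  haveI hCn : (centralizer (M : Set Y)).Normal := inferInstance
  set K1 := (centralizer (M : Set Y)).subgroupOf (S : Subgroup Y) with hK1
  have hK1ne : K1 ≠ ⊥ := by
    have hgt : g * (t : Y) * g⁻¹ ∈ (S : Subgroup Y) := by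
      rw [← hg, Sylow.coe_subgroup_smul]
      exact CfsgLib.Core.conj_mem_conj_smul (hT (mem_zpowers _))
    intro e'
    have hmem : (⟨_, hgt⟩ : (S : Subgroup Y)) ∈ K1 := hCn.conj_mem _ t.2 g
    rw [e', mem_bot] at hmem
    have h1 : g * (t : Y) * g⁻¹ = 1 := congrArg Subtype.val hmem
    rw [conj_eq_one_iff, ← orderOf_eq_one_iff, Subgroup.orderOf_coe, ht] at h1
    omega
  obtain ⟨⟨⟨z, hzS⟩, hzK, hzc⟩, hz1⟩ :=
    Subgroup.ne_bot_iff_exists_ne_one.1 (CfsgLib.PGroups.inf_center_ne_bot S.isPGroup' hK1ne)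
  apply hz1
  have hzM : z ∈ M ⊓ centralizer (M : Set Y) := ⟨hM z hzS fun s hs =>
    congrArg Subtype.val (Subgroup.mem_center_iff.1 hzc ⟨s, hs⟩), hzK⟩
  obtain ⟨j, hj⟩ := S.isPGroup' ⟨z, hzS⟩
  have h1 := mem_coreOf_of_comm (q := 2) (K := M ⊓ centralizer (M : Set Y))
    (fun x hx y hy => mem_centralizer_iff.1 hy.2 x hx.1) hzM (congrArg Subtype.val hj : z ^ 2 ^ j = 1)
  haveI : (coreOf 2 (M ⊓ centralizer (M : Set Y))).Normal :=
    Subgroup.normalizer_eq_top_iff.1 (top_le_iff.1 (le_trans (by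
      rw [Subgroup.normalizer_eq_top]) normalizer_le_coreOf))
  have h2 := CfsgLib.Core.le_pCore (p := 2) coreOf_isPGroup h1
  rw [hcore, mem_bot] at h2
  exact Subtype.ext (Subtype.ext h2)

/-- The subgroup of `U` moving `E`: the functor, or else the meet with `E`. -/
noncomputable def moveSub (E U : Subgroup X) : Subgroup X :=
  haveI := _root_.Classical.propDecidable (E ≤ centralizer (cfun U : Set X))
  if E ≤ centralizer (cfun U : Set X) then U ⊓ E else cfun U

theorem moveSub_le {E U : Subgroup X} : moveSub E U ≤ U := by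
  unfold moveSub; split
  · exact inf_le_left
  · exact cfun_le U

theorem normalizer_le_moveSub {E U : Subgroup X} :
    normalizer (U : Set X) ⊓ normalizer (E : Set X) ≤ normalizer (moveSub E U : Set X) := by
  unfold moveSub; split
  · exact inf_normalizer_le_normalizer_inf
  · exact inf_le_left.trans (cfun_normalized U)

variable (h : Sit p r G R)
include h

/-- The fixed-point groups which move the layer normalise one moving subgroup. -/
theorem Loc.good (hS : CfsgLib.ShultDep.Shult.{0}) (hL : Loc p G R H) (hE : layOf H ≠ ⊥)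
    (IH : ∀ H' : Subgroup X, Loc p G R H' → H' < H → fstarOf H' ≤ coreOf p H') {e : X} (he : e ∈ R)
    (hgood : ¬ layOf H ≤ centralizer (coreOf p (fixOf H e) : Set X)) :
    fixOf H e ≤ normalizer (moveSub (layOf H) (invInter p G R ⊓ H) : Set X) ∧
      ¬ layOf H ≤ centralizer (moveSub (layOf H) (invInter p G R ⊓ H) : Set X) := by
  set E := layOf H with hEdef
  set U := invInter p G R ⊓ H with hU
  set C := G ⊓ centralizer (R : Set X)
  have hHE : H ≤ normalizer (E : Set X) := le_normalizer.trans normalizer_le_layOf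
  have hRE : R ≤ normalizer (E : Set X) := hL.norm.trans normalizer_le_layOf
  have hRf : R ≤ normalizer (fixOf H e : Set X) :=
    (le_inf hL.norm (h.normalizes_fix he)).trans inf_normalizer_le_normalizer_inf
  have hCf : C ≤ fixOf H e := fun c hc => ⟨hL.fix hc, (centralizing_le_fixOf he hc).2⟩
  have hfH : fixOf H e ≤ H := inf_le_left
  have hW0 : coreOf p (fixOf H e) ≤ U :=
    le_inf (h.coreOf_le_meet (hfH.trans hL.le) hRf hCf) (coreOf_le.trans hfH)
  have hmove : ∀ W, W ≤ U → R ≤ normalizer (W : Set X) → C ≤ normalizer (W : Set X) →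
      ¬ E ≤ centralizer (W : Set X) → Loc p G R (H ⊓ normalizer (W : Set X)) ∧ H ⊓ normalizer (W : Set X) < H := by
    intro W hWU hWR hWC hWE
    refine ⟨hL.inf_normalizer h hWU hWR hWC, lt_of_le_of_ne inf_le_left fun e' => hWE ?_⟩
    exact centralizes_of_mutual ((Sit.meet_isPGroup h (H := H)).to_le hWU)
      (layOf_le.trans (e'.ge.trans inf_le_right)) (hWU.trans (inf_le_right.trans hHE))
  obtain ⟨hL0, hlt0⟩ := hmove _ hW0 (hRf.trans normalizer_le_coreOf)
    ((hCf.trans le_normalizer).trans normalizer_le_coreOf) hgood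
  obtain ⟨H', ⟨hL', hlt', hfH'⟩, hmax⟩ := wellFounded_gt.has_min
    {H' : Subgroup X | Loc p G R H' ∧ H' < H ∧ fixOf H e ≤ H'}
    ⟨_, hL0, hlt0, le_inf hfH (le_normalizer.trans normalizer_le_coreOf)⟩
  have hH'E : H' ≤ normalizer (E : Set X) := hlt'.le.trans hHE
  have hcon := IH H' hL' hlt'
  have hsc : H' ⊓ centralizer (coreOf p H' : Set X) ≤ coreOf p H' :=
    ((inf_le_inf_left _ (centralizer_le (fun x hx => hcon hx))).trans fstarOf_self_centralizing).trans hcon
  have hset := h.setup hL'.le hL'.norm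
  set U' := invInter p G R ⊓ H' with hU'
  have hU'eq : invInter p H' R = U' := (h.inter_eq hL'.le hL'.norm hL'.fix).symm
  obtain ⟨hcf, hbp⟩ := hset.cfun_invInter hsc
  rw [hU'eq] at hcf hbp
  have hCW : H' ≤ normalizer (cfun U' : Set X) := by
    rw [hcf]; exact (le_normalizer.trans normalizer_le_coreOf).trans (cfun_normalized _)
  set W := moveSub E U' with hWdef
  have hH'W : H' ≤ normalizer (W : Set X) ∧ ¬ E ≤ centralizer (W : Set X) := by
    rw [hWdef]
    unfold moveSub
    split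
    case isFalse hc => exact ⟨hCW, hc⟩
    case isTrue hc =>
      have hn : H' ≤ normalizer ((E ⊓ H' : Subgroup X) : Set X) :=
        (le_inf hH'E le_normalizer).trans inf_normalizer_le_normalizer_inf
      have hnR : R ≤ normalizer ((E ⊓ H' : Subgroup X) : Set X) :=
        (le_inf hRE hL'.norm).trans inf_normalizer_le_normalizer_inf
      have hp : IsPGroup p (E ⊓ H' : Subgroup X) := by
        by_contra hnp
        obtain ⟨B, M, t⟩ := exists_test hsc hL'.norm inf_le_right hn hnR hnp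
        refine t.not_triv fun g hg => ⟨t.irr.normB hg.2, t.irr.normM hg.2, fun b hb => ?_⟩
        rw [commutatorElement_eq_one_iff_mul_comm.2 (mem_centralizer_iff.1 (hc hg.1) b (hbp (t.le_bPlus hb)))]
        exact M.one_mem
      have heq : U' ⊓ E = E ⊓ H' := by
        refine le_antisymm (le_inf inf_le_right (inf_le_left.trans inf_le_right)) (le_inf ?_ inf_le_left)
        rw [← hU'eq]
        exact (le_pCore_map inf_le_right hn hp).trans coreOf_le_invInter
      rw [heq]
      refine ⟨hn, fun hcen => hL.fixed_not_central h hS hE (fun x hx => mem_centralizer_iff.2 fun y hy => ?_)⟩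
      exact (mem_centralizer_iff.1 (hcen hy) x ⟨hx.1, hL'.fix ⟨hL.le (layOf_le hx.1), hx.2⟩⟩).symm
  obtain ⟨hH'W, hWE⟩ := hH'W
  have hU'U : U' ≤ U := inf_le_inf_left _ hlt'.le
  have hRU' : R ≤ normalizer (U' : Set X) := hL'.oper_normalizes_meet h
  obtain ⟨hLW, hltW⟩ := hmove W (moveSub_le.trans hU'U) ((le_inf hRU' hRE).trans normalizer_le_moveSub)
    (hL'.fix.trans hH'W) hWE
  have hmaxle : H ⊓ normalizer (W : Set X) ≤ H' := by
    by_contra hn
    exact hmax _ ⟨hLW, hltW, le_inf hfH (hfH'.trans hH'W)⟩ (lt_of_le_of_ne (le_inf hlt'.le hH'W) fun e' => hn e'.ge)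
  have hUeq : U' = U := by
    by_contra hne
    haveI := (Sit.meet_isPGroup h (H := H)).isNilpotent
    have hlt : U'.subgroupOf U < ⊤ := by
      rw [lt_top_iff_ne_top, Ne, subgroupOf_eq_top]
      exact fun hle => hne (le_antisymm hU'U hle)
    have hgrow := Group.normalizerCondition_of_isNilpotent _ hlt
    rw [← subgroupOf_normalizer_eq hU'U] at hgrow
    obtain ⟨g, hg, hgU'⟩ := SetLike.exists_of_lt hgrow
    rw [mem_subgroupOf] at hg hgU'
    exact hgU' ⟨g.2.1, hmaxle ⟨g.2.2, normalizer_le_moveSub ⟨hg, hHE g.2.2⟩⟩⟩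
  rw [← hUeq]
  exact ⟨hfH'.trans hH'W, hWE⟩

/-- A fixed-point group which does not move the layer contributes only fixed points and central elements. -/
theorem Loc.bad (hS : CfsgLib.ShultDep.Shult.{0}) (hL : Loc p G R H) {e : X} (he : e ∈ R) (he1 : e ≠ 1)
    (hbad : layOf H ≤ centralizer (coreOf p (fixOf H e) : Set X)) {A : Subgroup X} {q : ℕ} [Fact q.Prime]
    (hA : IsPGroup q A) (hAE : A ≤ fixOf (layOf H) e) (hAR : R ≤ normalizer (A : Set X))
    (hA' : (∀ x ∈ A, ∀ y ∈ A, x * y = y * x) ∨ q ≠ 2) :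
    A ≤ (G ⊓ centralizer (R : Set X)) ⊔ (layOf H ⊓ centralizer (layOf H : Set X)) := by
  obtain ⟨a, ha, ha1, hgen⟩ := h.exists_gen he he1
  set E := layOf H with hEdef
  set Z := E ⊓ centralizer (E : Set X) with hZ
  set Ee := fixOf E e with hEe
  set D := coreOf p (fixOf G e) with hD
  have hEH : E ≤ H := layOf_le
  have hHE : H ≤ normalizer (E : Set X) := le_normalizer.trans normalizer_le_layOf
  have hRE : R ≤ normalizer (E : Set X) := hL.norm.trans normalizer_le_layOf
  have hREe : R ≤ normalizer (Ee : Set X) :=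
    (le_inf hRE (h.normalizes_fix he)).trans inf_normalizer_le_normalizer_inf
  have hEeG : Ee ≤ fixOf G e := inf_le_inf_right _ (hEH.trans hL.le)
  have hEeD : Ee ≤ normalizer (D : Set X) := hEeG.trans (le_normalizer.trans normalizer_le_coreOf)
  have hfE : fixOf H e ≤ normalizer (Ee : Set X) :=
    (le_inf (inf_le_left.trans hHE) (inf_le_right.trans le_normalizer)).trans inf_normalizer_le_normalizer_inf
  have hO : coreOf p Ee ≤ Z := fun x hx => ⟨(coreOf_le hx).1, mem_centralizer_iff.2 fun y hy =>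
    (mem_centralizer_iff.1 (hbad hy) x (coreOf_le_coreOf (inf_le_inf_right _ hEH) hfE hx)).symm⟩
  have hfix : ∀ y ∈ D, y * a = a * y → ∀ k ∈ Ee, ⁅y, k⁆ ∈ Z := by
    intro y hy hya k hk
    have hyf := mem_fixOf.1 (coreOf_le hy)
    have hyH : y ∈ fixOf H e := mem_fixOf.2 ⟨hL.fix ⟨hyf.1, fixed_of_gen hgen hyf.2 hya⟩, hyf.2⟩
    refine hO (le_pCore_map (inf_le_right : D ⊓ Ee ≤ Ee)
      ((le_inf hEeD le_normalizer).trans inf_normalizer_le_normalizer_inf)
      (coreOf_isPGroup.to_le inf_le_left) ⟨?_, ?_⟩)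
    · rw [show ⁅y, k⁆ = y * (k * y⁻¹ * k⁻¹) by simp only [commutatorElement_def]; group]
      exact D.mul_mem hy (conj_mem (hEeD hk) (D.inv_mem hy))
    · rw [commutatorElement_def]
      exact Ee.mul_mem (conj_mem (hfE hyH) hk) (Ee.inv_mem hk)
  have hndA : ∀ {K : Subgroup X}, K ≤ G → ¬ r ∣ Nat.card K := fun hK hd => h.ndvd (hd.trans (card_dvd_of_le hK))
  have hodd : q ≠ 2 → Odd (Nat.card A) := fun hq2 => by
    obtain ⟨n, hn⟩ := hA.exists_card_eq
    rw [hn]
    exact ((Fact.out : q.Prime).odd_of_ne_two hq2).pow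
  intro k hk
  have hkf := mem_fixOf.1 (hEeG (hAE hk))
  rcases eq_or_ne q p with hqp | hqp
  swap
  · have hd : StepData p r D A A a :=
      ⟨h.hr, hndA (coreOf_le.trans inf_le_left), h.exp a ha, hndA (fun x hx => (hEeG (hAE hx)).1), coreOf_isPGroup,
        hAE.trans hEeD, (h.normalizes_fixOf he).trans normalizer_le_coreOf ha, hAR ha, hAR ha, le_rfl,
        hA'.imp id hodd, fun y hy hya x hx x' hx' =>
          mem_centralizer_iff.1 (hfix y hy hya x (hAE hx)).2 x' (hAE hx').1⟩
    obtain ⟨N, hN, -, -, hkN, hcen⟩ := hd.exists_normal hS hk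
    set x := ⁅k, a⁆ with hx
    have hxc := coprime_orderOf_of_isPGroup hqp hA (hN hkN)
    have hxR := (h.l0 he he1 (hEeG (hAE (hN hkN))) hxc (hcen x hkN hxc)).1
    have hxa : Commute x a := (mem_centralizer_iff.1 hxR a ha).symm
    have hxr : x ^ r = 1 := by
      have e1 : k * a * k⁻¹ = x * a := by simp only [hx, commutatorElement_def]; group
      have e2 := congrArg (· ^ r) e1
      simp only [conj_pow, h.exp a ha, mul_one, mul_inv_cancel, hxa.mul_pow] at e2
      exact e2.symm
    have hx1 : x = 1 := by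
      have h1 := Nat.dvd_gcd (orderOf_dvd_of_pow_eq_one hxr)
        (Subgroup.orderOf_mk x (hEeG (hAE (hN hkN))).1 ▸ orderOf_dvd_natCard (⟨x, (hEeG (hAE (hN hkN))).1⟩ : G))
      rw [(h.hr.coprime_iff_not_dvd.2 h.ndvd : Nat.Coprime r (Nat.card G)), Nat.dvd_one] at h1
      exact orderOf_eq_one_iff.1 h1
    exact mem_sup_left ⟨hkf.1, fixed_of_gen hgen hkf.2 (commutatorElement_eq_one_iff_mul_comm.1 hx1)⟩
  · subst hqp
    have hq2 : q ≠ 2 := fun e' => by have := h.hp5; omega
    have hd : StepData q r D Ee A a :=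
      ⟨h.hr, hndA (coreOf_le.trans inf_le_left), h.exp a ha, hndA (hEeG.trans inf_le_left), coreOf_isPGroup,
        hEeD, (h.normalizes_fixOf he).trans normalizer_le_coreOf ha, hREe ha, hAR ha, hAE,
        Or.inr (hodd hq2), fun y hy hya x hx x' hx' => mem_centralizer_iff.1 (hfix y hy hya x hx).2 x' hx'.1⟩
    have key : ∀ k ∈ A, ⁅k, a⁆ ∈ Z := by
      intro k hk
      obtain ⟨N, hN, hEN, -, hkN, hcen⟩ := hd.exists_normal hS hk
      set T : Set X := {g | g ∈ N ∧ (orderOf g).Coprime q}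
      set M1 := N ⊓ centralizer T with hM1
      have hEM : Ee ≤ normalizer (M1 : Set X) := by
        refine le_normalizer_of_conj_mem fun g hg x hx => ⟨conj_mem (hEN hg) hx.1, mem_centralizer_iff.2 fun t ht => ?_⟩
        have e1 := mem_centralizer_iff.1 hx.2 (g⁻¹ * t * g)
          ⟨conj_mem' (hEN hg) ht.1, by simpa using coprime_conj (g := g⁻¹) ht.2⟩
        calc t * (g * x * g⁻¹) = g * ((g⁻¹ * t * g) * x) * g⁻¹ := by group
          _ = g * (x * (g⁻¹ * t * g)) * g⁻¹ := by rw [e1]
          _ = _ := by group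
      have hxA : ⁅k, a⁆ ∈ A := hd.commutator_mem hk
      have hxM : ⁅k, a⁆ ∈ M1 := ⟨hkN, mem_centralizer_iff.2 fun g hg =>
        (h.l0 he he1 (hEeG (hN hg.1)) hg.2 (hcen g hg.1 hg.2)).2 k (hEeG (hAE hk)) a ha⟩
      obtain ⟨S, hxS⟩ := ((hA.to_le (zpowers_le.2 hxA)).comap_subtype (K := M1)).exists_le_sylow
      haveI : (S : Subgroup M1).Normal := ⟨fun s hs g => by
        obtain ⟨s', hs', c, hc, rfl⟩ := CfsgLib.Transfer.exists_mul_mem_pResidual S g
        have hcs : c * s = s * c := by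
          have hle : Cfsg.pResidual q M1 ≤ centralizer ({s} : Set M1) := CfsgLib.Transfer.pResidual_le_iff.2
            fun d hd' => mem_centralizer_singleton_iff.2 (Subtype.ext
              (mem_centralizer_iff.1 s.2.2 (d : X) ⟨d.2.1, by rwa [Subgroup.orderOf_coe]⟩))
          exact mem_centralizer_singleton_iff.1 (hle hc)
        rw [mul_inv_rev, show s' * c * s * (c⁻¹ * s'⁻¹) = s' * ((c * s) * c⁻¹) * s'⁻¹ by group, hcs,
          mul_inv_cancel_right]
        exact (S : Subgroup M1).mul_mem ((S : Subgroup M1).mul_mem hs' hs) ((S : Subgroup M1).inv_mem hs')⟩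
      have hmem : ⁅k, a⁆ ∈ coreOf q M1 := mem_map.2 ⟨⟨_, hxM⟩,
        CfsgLib.Core.le_pCore (p := q) S.isPGroup' (hxS (mem_zpowers ⁅k, a⁆)), rfl⟩
      exact hO (coreOf_le_coreOf (inf_le_left.trans hN) hEM hmem)
    set N0 := Z ⊓ centralizer ({e} : Set X) with hN0
    have haZ : a ∈ normalizer (Z : Set X) :=
      inf_normalizer_le_normalizer_inf ⟨hRE ha, normalizer_le_centralizer' E (hRE ha)⟩
    have haN0 : a ∈ normalizer (N0 : Set X) := inf_normalizer_le_normalizer_inf ⟨haZ, h.normalizes_fix he ha⟩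
    have hbase : k⁻¹ * (a * k * a⁻¹) ∈ N0 := by
      have h1 : ⁅k⁻¹, a⁆ = k⁻¹ * (a * k * a⁻¹) := by simp only [commutatorElement_def, inv_inv]; group
      rw [← h1]
      exact ⟨key _ (A.inv_mem hk), (hAE (hd.commutator_mem (A.inv_mem hk))).2⟩
    obtain ⟨n, hn, hfixn⟩ := CfsgLib.Core.exists_centralizing_in_coset (A := zpowers a) (N := N0) (k := k)
      (zpowers_le.2 haN0) (by
        refine ((h.coprime_card (show N0 ≤ G from fun x hx => hL.le (hEH hx.1.1))).coprime_dvd_left
          (card_dvd_of_le (zpowers_le.2 ha))))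
      (Or.inl (haveI := h.solvableR; CfsgLib.Core.isSolvable_of_le this (zpowers_le.2 ha))) (fun g hg => by
        obtain ⟨m, rfl⟩ := (mem_powers_iff_mem_zpowers.2 hg : g ∈ Submonoid.powers a)
        show k⁻¹ * (a ^ m * k * (a ^ m)⁻¹) ∈ N0
        induction m with
        | zero => simp
        | succ m ih =>
          have e1 : k⁻¹ * (a ^ (m + 1) * k * (a ^ (m + 1))⁻¹) =
              (k⁻¹ * (a * k * a⁻¹)) * (a * (k⁻¹ * (a ^ m * k * (a ^ m)⁻¹)) * a⁻¹) := by
            rw [pow_succ']; group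
          rw [e1]
          exact N0.mul_mem hbase (conj_mem haN0 (ih (mem_powers_iff_mem_zpowers.1 ⟨m, rfl⟩))))
    have hkn : k * n ∈ centralizer (R : Set X) := by
      refine fixed_of_gen hgen ?_ (mem_centralizer_iff.1 hfixn a (mem_zpowers a)).symm
      exact mem_centralizer_singleton_iff.1
        ((centralizer ({e} : Set X)).mul_mem (mem_centralizer_singleton_iff.2 hkf.2) hn.2)
    rw [show k = (k * n) * n⁻¹ by group]
    exact Subgroup.mul_mem _ (mem_sup_left ⟨G.mul_mem hkf.1 (hL.le (hEH hn.1.1)), hkn⟩)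
      (mem_sup_right (Z.inv_mem hn.1))

/-- A proper subgroup containing the parts of the layer fixed by single operators. -/
theorem Loc.exists_cover (hS : CfsgLib.ShultDep.Shult.{0}) (hL : Loc p G R H) (hE : layOf H ≠ ⊥)
    (IH : ∀ H' : Subgroup X, Loc p G R H' → H' < H → fstarOf H' ≤ coreOf p H') :
    ∃ N : Subgroup X, (G ⊓ centralizer (R : Set X)) ⊔ (layOf H ⊓ centralizer (layOf H : Set X)) ≤ N ∧
      ¬ layOf H ≤ N ∧ ∀ e ∈ R, e ≠ 1 → ¬ layOf H ≤ centralizer (coreOf p (fixOf H e) : Set X) →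
        fixOf H e ≤ N := by
  set E := layOf H with hEdef
  set U := invInter p G R ⊓ H with hU
  set C := G ⊓ centralizer (R : Set X) with hC
  set Z := E ⊓ centralizer (E : Set X) with hZ
  have hUE : U ≤ normalizer (E : Set X) := inf_le_right.trans (le_normalizer.trans normalizer_le_layOf)
  have hmutual : ∀ {W : Subgroup X}, W ≤ U → E ≤ normalizer (W : Set X) → E ≤ centralizer (W : Set X) :=
    fun hW hEW => centralizes_of_mutual ((Sit.meet_isPGroup h (H := H)).to_le hW) hEW (hW.trans hUE)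
  by_cases hex : ∃ e ∈ R, e ≠ 1 ∧ ¬ E ≤ centralizer (coreOf p (fixOf H e) : Set X)
  · obtain ⟨e, he, he1, hgood⟩ := hex
    obtain ⟨hfe, hmv⟩ := hL.good h hS hE IH he hgood
    refine ⟨H ⊓ normalizer (moveSub E U : Set X), sup_le (le_inf hL.fix ?_) (le_inf (inf_le_left.trans layOf_le) ?_),
      fun hle => hmv (hmutual moveSub_le (hle.trans inf_le_right)), fun e' he' _ hg =>
        le_inf inf_le_left (hL.good h hS hE IH he' hg).1⟩
    · exact (show C ≤ fixOf H e from fun c hc => ⟨hL.fix hc, (centralizing_le_fixOf he hc).2⟩).trans hfe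
    · exact (hL.centre_layOf h hS).2.trans ((le_inf le_normalizer hUE).trans normalizer_le_moveSub)
  · refine ⟨C ⊔ Z, le_rfl, fun hle => ?_, fun e he he1 hg => absurd ⟨e, he, he1, hg⟩ hex⟩
    have hCZ : C ≤ normalizer (Z : Set X) :=
      (le_inf ((hL.fix.trans le_normalizer).trans normalizer_le_layOf)
        (((hL.fix.trans le_normalizer).trans normalizer_le_layOf).trans (normalizer_le_centralizer' E))).trans
        inf_normalizer_le_normalizer_inf
    have hEC : E ≤ C := by
      rw [hEdef, ← layOf_perfect]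
      refine commutator_le.2 fun x hx y hy => ?_
      obtain ⟨c, hc, z, hz, rfl⟩ := (CfsgLib.Core.mem_sup_iff_mul hCZ).1 (hle hx)
      obtain ⟨c', hc', z', hz', rfl⟩ := (CfsgLib.Core.mem_sup_iff_mul hCZ).1 (hle hy)
      have e1 : (c' * z') * z = z * (c' * z') := mem_centralizer_iff.1 hz.2 _ hy
      have hcE : c ∈ E := by simpa using E.mul_mem hx (E.inv_mem hz.1)
      have e2 : c * z' = z' * c := mem_centralizer_iff.1 hz'.2 _ hcE
      rw [show ⁅c * z, c' * z'⁆ = c * (z * (c' * z')) * z⁻¹ * c⁻¹ * z'⁻¹ * c'⁻¹ by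
          simp only [commutatorElement_def]; group, ← e1,
        show c * (c' * z' * z) * z⁻¹ * c⁻¹ * z'⁻¹ * c'⁻¹ = c * c' * (z' * c⁻¹) * z'⁻¹ * c'⁻¹ by group,
        ← (show Commute c z' from e2).inv_left.eq,
        show c * c' * (c⁻¹ * z') * z'⁻¹ * c'⁻¹ = c * c' * c⁻¹ * c'⁻¹ by group]
      exact C.mul_mem (C.mul_mem (C.mul_mem hc hc') (C.inv_mem hc)) (C.inv_mem hc')
    have hcen := hmutual le_rfl (hEC.trans (hL.fix_normalizes_meet h))
    refine hE (layOf_eq_bot_of_pgroup (p := p) (isPGroup_of_coprime_eq_one fun g hg hgc => ?_))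
    exact hL.star g (hEC hg) hgc fun x hx => mem_centralizer_iff.1 (hcen hg) x hx

/-- The layer is trivial. -/
theorem Loc.layOf_eq_bot (hS : CfsgLib.ShultDep.Shult.{0}) (hL : Loc p G R H)
    (IH : ∀ H' : Subgroup X, Loc p G R H' → H' < H → fstarOf H' ≤ coreOf p H') : layOf H = ⊥ := by
  classical
  by_contra hE
  obtain ⟨N, hCZ, hEN, hgoodN⟩ := hL.exists_cover h hS hE IH
  set E := layOf H with hEdef
  have hEG : E ≤ G := layOf_le.trans hL.le
  have hRE : R ≤ normalizer (E : Set X) := hL.norm.trans normalizer_le_layOf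
  have hcop := h.coprime_card hEG
  have hsub : ∀ {q : ℕ}, q.Prime → ∀ A : Subgroup X, A ≤ E → IsPGroup q A → R ≤ normalizer (A : Set X) →
      ((∀ x ∈ A, ∀ y ∈ A, x * y = y * x) ∨ q ≠ 2) → A ≤ N := by
    intro q hq A hAE hA hAR hA'
    haveI := Fact.mk hq
    refine h.le_of_fixed (hAE.trans hEG) hAR fun e he he1 => ?_
    by_cases hb : E ≤ centralizer (coreOf p (fixOf H e) : Set X)
    · exact (hL.bad h hS he he1 hb (hA.to_le inf_le_left) (inf_le_inf_right _ hAE)
        ((le_inf hAR (h.normalizes_fix he)).trans inf_normalizer_le_normalizer_inf)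
        (hA'.imp (fun hc x hx y hy => hc x hx.1 y hy.1) id)).trans hCZ
    · exact (inf_le_inf_right _ (hAE.trans layOf_le)).trans (hgoodN e he he1 hb)
  set B := N.subgroupOf E with hB
  have hidx : ∀ q : ℕ, q.Prime → q ≠ 2 → ¬ q ∣ B.index := by
    intro q hq hq2 hd
    haveI := Fact.mk hq
    obtain ⟨S, hS0⟩ := CfsgLib.Core.exists_invariant_sylow hRE hcop (Or.inl h.solvableR) q
    have hSB : (S : Subgroup E) ≤ B := fun x hx =>
      hsub hq _ (map_subtype_le _) (S.isPGroup'.map _) hS0 (Or.inr hq2) (mem_map_of_mem _ hx)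
    exact S.not_dvd_index (hd.trans (index_dvd_of_le hSB))
  obtain ⟨S, hS0⟩ := CfsgLib.Core.exists_invariant_sylow hRE hcop (Or.inl h.solvableR) 2
  set S0 := (S : Subgroup E).map E.subtype
  have hA2 : zIn S0 ≤ N := hsub Nat.prime_two _ (inf_le_left.trans (map_subtype_le _))
    ((S.isPGroup'.map _).to_le inf_le_left) (hS0.trans (normalizer_le_zIn S0))
    (Or.inl fun x hx y hy => mem_centralizer_iff.1 hy.2 x hx.1)
  set A0 := (zIn S0).subgroupOf E with hA0
  have hA0c : ∀ z ∈ A0, ∀ s ∈ (S : Subgroup E), s * z = z * s := fun z hz s hs =>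
    Subtype.ext (mem_centralizer_iff.1 hz.2 _ (mem_map_of_mem _ hs))
  have hprod := exists_mul_of_two_index B S hidx
  set M0 := normalClosure (A0 : Set E) with hM0
  have hM0B : M0 ≤ B := by
    refine (closure_le _).2 ?_
    intro x hx
    obtain ⟨z, hz, hc⟩ := Group.mem_conjugatesOfSet_iff.1 hx
    obtain ⟨g, rfl⟩ := isConj_iff.1 hc
    obtain ⟨s, hs, hb⟩ := hprod g⁻¹
    have hzB : z ∈ B := hA2 hz
    have := B.mul_mem (B.mul_mem (B.inv_mem hb) hzB) hb
    rwa [show (s⁻¹ * g⁻¹)⁻¹ * z * (s⁻¹ * g⁻¹) = g * (s * z * s⁻¹) * g⁻¹ by group,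
      hA0c z hz s hs, mul_inv_cancel_right] at this
  haveI hM0n : M0.Normal := normalClosure_normal
  haveI : Fact (Nat.Prime 2) := ⟨Nat.prime_two⟩
  have h2p : (2 : ℕ) ≠ p := by have := h.hp5; omega
  have hcore : Cfsg.pCore 2 E = ⊥ := by
    apply map_injective E.subtype_injective
    rw [Subgroup.map_bot]
    refine le_bot_iff.1 ((coreOf_le_coreOf (q := 2) layOf_le (le_normalizer.trans normalizer_le_layOf)).trans ?_)
    rw [hL.qCore_eq_bot h hS h2p]
  have hcenA : ∀ z ∈ (S : Subgroup E), (∀ s ∈ (S : Subgroup E), s * z = z * s) → z ∈ M0 := fun z hz hc =>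
    subset_normalClosure (show z ∈ A0 from ⟨mem_map_of_mem _ hz, mem_centralizer_iff.2 fun y hy => by
      obtain ⟨s, hs, rfl⟩ := hy
      exact congrArg Subtype.val (hc s hs)⟩)
  have hK0 := odd_centralizer_of_centre_le S M0 hcenA hcore
  have hsolv : Group.IsSolvable (centralizer (M0 : Set E)) := CfsgLib.OddLocal.FTFinal.odd_order_solvable hK0
  have hlay : Cfsg.layer E ≤ M0 := CfsgLib.Components.layer_le_iff.2 fun L hLc => by
    rcases CfsgLib.Components.component_le_or_commutes hLc hM0n.isSubnormal with e' | e'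
    · exact e'
    · exact absurd (CfsgLib.Core.isSolvable_of_le hsolv (commutator_eq_bot_iff_le_centralizer.1 e'))
        (CfsgLib.Components.IsComponent.not_isSolvable hLc)
  rw [layer_layOf] at hlay
  exact hEN fun x hx => hM0B (hlay (mem_top ⟨x, hx⟩))

/-- Every faithful invariant subgroup containing the fixed points is constrained. -/
theorem Loc.constrained (hS : CfsgLib.ShultDep.Shult.{0}) (hL : Loc p G R H) : fstarOf H ≤ coreOf p H := by
  induction hn : Nat.card H using Nat.strong_induction_on generalizing H with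
  | _ n ih =>
    refine hL.fstarOf_le h hS (hL.layOf_eq_bot h hS fun H' hL' hlt => ih (Nat.card H') ?_ hL' rfl)
    rw [← hn]
    exact Set.Finite.card_lt_card (Set.toFinite _) (SetLike.coe_ssubset_coe.2 hlt)

/-- The group itself is constrained. -/
theorem Sit.constrained (hS : CfsgLib.ShultDep.Shult.{0}) : fstarOf G ≤ coreOf p G :=
  h.loc_self.constrained h hS

end CfsgLib.Flavell
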