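import Cfsg.Agent.Lib.Flavell.Members
import Cfsg.Agent.Lib.FixedSpace.ShultDep.Basic

/-!
Owner: helper26 (S1931). A group acted on coprimely by an operator of prime order, acting on a `p`-group whose fixed
points it nearly centralises: commutators with the operator lie in normal subgroups with central residual.
-/

set_option autoImplicit false
set_option linter.unusedSectionVars false
set_option linter.style.haveILetI false

namespace CfsgLib.Flavell

open Cfsg Subgroup CfsgLib.PLocal.ZJCoprime CfsgLib.QuadPair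
open scoped commutatorElement

universe u

variable {p r : ℕ} [Fact p.Prime] {X : Type u} [Group X] [Finite X] {D K A B M : Subgroup X} {a k : X}

/-- The data of the step. -/
structure StepData (p r : ℕ) (D K A : Subgroup X) (a : X) : Prop where
  hr : r.Prime
  ndvdD : ¬ r ∣ Nat.card D
  pow : a ^ r = 1
  ndvd : ¬ r ∣ Nat.card K
  hDp : IsPGroup p D
  hKD : K ≤ normalizer (D : Set X)
  haD : a ∈ normalizer (D : Set X)
  haK : a ∈ normalizer (K : Set X)
  haA : a ∈ normalizer (A : Set X)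
  hAK : A ≤ K
  hA : (∀ x ∈ K, ∀ y ∈ K, x * y = y * x) ∨ Odd (Nat.card A)
  fix : ∀ y ∈ D, y * a = a * y → ∀ x ∈ K, ∀ x' ∈ K, x' * ⁅y, x⁆ = ⁅y, x⁆ * x'

/-- A normal invariant subgroup containing the commutator whose elements of order prime to `p` centralise the
section. -/
def Centr (p : ℕ) (K : Subgroup X) (a k : X) (B M : Subgroup X) : Prop :=
  ∃ N ≤ K, K ≤ normalizer (N : Set X) ∧ a ∈ normalizer (N : Set X) ∧ ⁅k, a⁆ ∈ N ∧
    ∀ g ∈ N, (orderOf g).Coprime p → ∀ b ∈ B, ⁅b, g⁆ ∈ M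

theorem StepData.commutator_mem (h : StepData p r D K A a) (hk : k ∈ A) : ⁅k, a⁆ ∈ A := by
  rw [show ⁅k, a⁆ = k * (a * k⁻¹ * a⁻¹) by simp only [commutatorElement_def]; group]
  exact A.mul_mem hk ((mem_normalizer_iff.1 h.haA _).1 (A.inv_mem hk))

theorem Centr.trans {S : Subgroup X} (hBp : IsPGroup p B) (hMS : M ≤ S) (hSB : S ≤ B)
    (hKM : K ≤ normalizer (M : Set X))
    (hSM : S ≤ normalizer (M : Set X)) (h1 : Centr p K a k S M) (h2 : Centr p K a k B S) :
    Centr p K a k B M := by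
  obtain ⟨N1, hN1, hK1, ha1, hk1, hc1⟩ := h1
  obtain ⟨N2, hN2, hK2, ha2, hk2, hc2⟩ := h2
  refine ⟨N1 ⊓ N2, inf_le_left.trans hN1, (le_inf hK1 hK2).trans inf_normalizer_le_normalizer_inf,
    inf_normalizer_le_normalizer_inf ⟨ha1, ha2⟩, ⟨hk1, hk2⟩, fun g hg hgc b hb => ?_⟩
  haveI : (M.subgroupOf S).Normal := normal_subgroupOf_of_le_normalizer hSM
  have hgK := hN1 hg.1
  have hgM := hKM hgK
  have hmem : ∀ n : ℕ, b * g ^ n * b⁻¹ * (g ^ n)⁻¹ ∈ S := fun n => by
    rw [← commutatorElement_def]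
    exact hc2 _ (Subgroup.pow_mem _ hg.2 n) (Nat.Coprime.coprime_dvd_left (orderOf_pow_dvd n) hgc) b hb
  have hgS : ∀ x ∈ S, g * x * g⁻¹ ∈ S ∧ x⁻¹ * (g * x * g⁻¹) ∈ M := fun x hx => by
    have h1 := hc1 g hg.1 hgc x⁻¹ (S.inv_mem hx)
    have h2 : x⁻¹ * (g * x * g⁻¹) ∈ M := by
      rwa [show x⁻¹ * (g * x * g⁻¹) = ⁅x⁻¹, g⁆ by simp only [commutatorElement_def]; group]
    exact ⟨by simpa using S.mul_mem hx (hMS h2), h2⟩
  let q : S → S ⧸ M.subgroupOf S := QuotientGroup.mk
  have hq : ∀ x : S, q ⟨g * x * g⁻¹, (hgS x x.2).1⟩ = q x := fun x =>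
    ((QuotientGroup.eq).2 (mem_subgroupOf.2 (hgS x x.2).2)).symm
  have hstep : ∀ n : ℕ, q ⟨b * g ^ n * b⁻¹ * (g ^ n)⁻¹, hmem n⟩ = q ⟨b * g ^ 1 * b⁻¹ * (g ^ 1)⁻¹, hmem 1⟩ ^ n := by
    intro n
    induction n with
    | zero =>
      refine Eq.trans ?_ (pow_zero _).symm
      refine (QuotientGroup.eq_one_iff _).2 (mem_subgroupOf.2 ?_)
      simp
    | succ n ih =>
      refine Eq.trans ?_ (pow_succ' _ n).symm
      rw [← ih, ← hq ⟨b * g ^ n * b⁻¹ * (g ^ n)⁻¹, hmem n⟩]
      show _ = q _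
      refine congrArg q (Subtype.ext ?_)
      simp only [Subgroup.coe_mul, pow_one, pow_succ' g n]
      group
  have h1' := hstep (orderOf g)
  have he : q ⟨b * g ^ orderOf g * b⁻¹ * (g ^ orderOf g)⁻¹, hmem _⟩ = 1 := by
    refine (QuotientGroup.eq_one_iff _).2 (mem_subgroupOf.2 ?_)
    simp [pow_orderOf_eq_one]
  rw [he] at h1'
  have := (QuotientGroup.eq_one_iff _).1 (eq_one_of_pow_of_isPGroup ((hBp.to_le hSB).to_quotient _) hgc h1'.symm)
  rw [mem_subgroupOf] at this
  simpa [commutatorElement_def] using this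

/-- The irreducible case. -/
theorem StepData.irred (hS : CfsgLib.ShultDep.Shult.{0}) (h : StepData p r D K A a) (hk : k ∈ A) (hMB : M ≤ B)
    (hne : M ≠ B) (hBD : B ≤ D) (hKB : K ≤ normalizer (B : Set X)) (hKM : K ≤ normalizer (M : Set X))
    (haB : a ∈ normalizer (B : Set X)) (haM : a ∈ normalizer (M : Set X))
    (hcomm : ∀ x ∈ B, ∀ y ∈ B, ⁅x, y⁆ ∈ M) (hpow : ∀ x ∈ B, x ^ p ∈ M)
    (hirr : ∀ N, M ≤ N → N ≤ B → K ≤ normalizer (N : Set X) → a ∈ normalizer (N : Set X) → N = M ∨ N = B) :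
    Centr p K a k B M := by
  classical
  set Γ : Subgroup X := K ⊔ zpowers a with hΓdef
  have hΓ : ∀ {L : Subgroup X}, K ≤ normalizer (L : Set X) → a ∈ normalizer (L : Set X) →
      Γ ≤ normalizer (L : Set X) := fun h1 h2 => sup_le h1 (zpowers_le.2 h2)
  have hΓK : Γ ≤ normalizer (K : Set X) := hΓ le_normalizer h.haK
  obtain ⟨n, ρ, π, hπ, hker, hρ⟩ := section_rep (Γ := Γ) hMB (hΓ hKB haB) (hΓ hKM haM) hcomm hpow
  set V := Fin n → ZMod p
  haveI := finite_gl (p := p) (V := V)
  let act : Γ → V → V := fun g v => (ρ g : Module.End (ZMod p) V) v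
  have hact : ∀ g g' v, act (g * g') v = act g (act g' v) := fun g g' v => by
    simp only [act, map_mul, Units.val_mul, Module.End.mul_apply]
  have hsurj : ∀ v : V, ∃ b : B, (π b).toAdd = v := fun v => by
    obtain ⟨b, hb⟩ := hπ (Multiplicative.ofAdd v)
    exact ⟨b, by rw [hb]; rfl⟩
  have hsub : ∀ W : Submodule (ZMod p) V, (∀ g : Γ, ∀ v ∈ W, act g v ∈ W) → W = ⊥ ∨ W = ⊤ := by
    intro W hW
    set N : Subgroup X := ((AddSubgroup.toSubgroup W.toAddSubgroup).comap π).map B.subtype with hN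
    have hmem : ∀ b : B, (b : X) ∈ N ↔ (π b).toAdd ∈ W := fun b => mem_map_iff_mem B.subtype_injective
    have hn : Γ ≤ normalizer (N : Set X) := le_normalizer_of_conj_mem fun g hg y hy => by
      obtain ⟨b, hb, rfl⟩ := hy
      have h1 := hW ⟨g, hg⟩ _ ((hmem b).1 (mem_map_of_mem _ hb))
      simp only [act, hρ] at h1
      exact (hmem _).2 h1
    rcases hirr N (fun m hm => (hmem ⟨m, hMB hm⟩).2 (by rw [(hker _).2 hm]; exact W.zero_mem))
      (map_subtype_le _) (le_sup_left.trans hn) (hn (mem_sup_right (mem_zpowers a))) with e | e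
    · refine Or.inl (eq_bot_iff.2 fun w hw => ?_)
      obtain ⟨b, rfl⟩ := hsurj w
      rw [(hker b).2 (e ▸ (hmem b).2 hw)]
      exact zero_mem _
    · refine Or.inr (eq_top_iff.2 fun w _ => ?_)
      obtain ⟨b, rfl⟩ := hsurj w
      exact (hmem b).1 (e.symm ▸ b.2)
  have hmemM : ∀ (g : Γ), (∀ b : B, act g (π b).toAdd = (π b).toAdd) → ∀ b ∈ B, ⁅b, (g : X)⁆ ∈ M := by
    intro g hg b hb
    have h1 := hg ⟨b⁻¹, B.inv_mem hb⟩
    simp only [act, hρ] at h1
    have h2 : π ⟨_, _⟩ = π ⟨b⁻¹, B.inv_mem hb⟩ := Multiplicative.toAdd.injective h1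
    rw [← inv_mul_eq_one, ← map_inv, ← map_mul, hker] at h2
    have h3 := M.inv_mem h2
    simp only [Subgroup.coe_mul, Subgroup.coe_inv] at h3
    rw [mul_inv_rev, inv_inv] at h3
    simpa [commutatorElement_def, mul_assoc] using h3
  let W : Submodule (ZMod p) V :=
    { carrier := {v | ∀ g : Γ, (g : X) ∈ K → act g v = v}
      zero_mem' := fun g _ => map_zero _
      add_mem' := fun {v w} hv hw g hg => by
        show act g (v + w) = v + w
        simp only [act, map_add] at *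
        rw [hv g hg, hw g hg]
      smul_mem' := fun c v hv g hg => by
        show act g (c • v) = c • v
        simp only [act, map_smul] at *
        rw [hv g hg] }
  rcases hsub W (fun g v hv g' hg' => by
      rw [← hact, show g' * g = g * (g⁻¹ * g' * g) by group, hact,
        hv (g⁻¹ * g' * g) ((mem_normalizer_iff''.1 (hΓK g.2) _).1 hg')]) with hW | hW
  swap
  · refine ⟨K, le_rfl, le_normalizer, h.haK, h.hAK (h.commutator_mem hk), fun g hg _ => ?_⟩
    refine hmemM ⟨g, mem_sup_left hg⟩ fun b => ?_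
    have : (π b).toAdd ∈ W := hW ▸ Submodule.mem_top
    exact this _ hg
  refine ⟨K ⊓ actTriv B M, inf_le_left,
    ((le_inf le_normalizer ((le_inf hKB hKM).trans normalizer_le_actTriv)).trans inf_normalizer_le_normalizer_inf),
    inf_normalizer_le_normalizer_inf ⟨h.haK, normalizer_le_actTriv ⟨haB, haM⟩⟩, ?_,
    fun g hg _ => hg.2.2.2⟩
  have hxK : ⁅k, a⁆ ∈ K := h.hAK (h.commutator_mem hk)
  refine ⟨hxK, hKB hxK, hKM hxK, hmemM ⟨⁅k, a⁆, mem_sup_left hxK⟩ fun b => ?_⟩
  -- the fixed space of the operator is trivial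
  set a0 : Γ := ⟨a, mem_sup_right (mem_zpowers a)⟩ with ha0
  have hfix : ∀ v : V, act a0 v = v → v = 0 := by
    intro v hv
    obtain ⟨b, rfl⟩ := hsurj v
    have hpow' : ∀ m : ℕ, act (a0 ^ m) (π b).toAdd = (π b).toAdd := fun m => by
      induction m with
      | zero => simp [act]
      | succ m ih => rw [pow_succ, hact, hv, ih]
    obtain ⟨z, hz, hfz⟩ := CfsgLib.Core.exists_centralizing_in_coset (A := zpowers a) (N := M) (k := (b : X))
      (zpowers_le.2 haM) (by
        rw [Nat.card_zpowers]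
        refine Nat.Coprime.coprime_dvd_left (orderOf_dvd_of_pow_eq_one h.pow) (h.hr.coprime_iff_not_dvd.2 ?_)
        exact fun hd => h.ndvdD (hd.trans (card_dvd_of_le (hMB.trans hBD))))
      (Or.inl (Group.isSolvable_of_comm fun x y => Subtype.ext (by
        obtain ⟨i, hi⟩ := mem_zpowers_iff.1 x.2
        obtain ⟨j, hj⟩ := mem_zpowers_iff.1 y.2
        simp only [Subgroup.coe_mul, ← hi, ← hj]
        exact zpow_mul_comm a i j))) (fun g hg => by
        obtain ⟨m, rfl⟩ := (mem_powers_iff_mem_zpowers.2 hg : g ∈ Submonoid.powers a)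
        have h1 := hpow' m
        simp only [act, hρ] at h1
        have h2 : π b = π ⟨_, _⟩ := (Multiplicative.toAdd.injective h1).symm
        rw [← inv_mul_eq_one, ← map_inv, ← map_mul, hker] at h2
        simpa [a0] using h2)
    set y : B := b * ⟨z, hMB hz⟩ with hy
    have hyv : π y = π b := by rw [hy, map_mul, (hker ⟨z, hMB hz⟩).2 hz, mul_one]
    have hya : (y : X) * a = a * y := (mem_centralizer_iff.1 hfz a (mem_zpowers a)).symm
    have hyW : (π b).toAdd ∈ W := by
      intro g hg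
      have hcB : ⁅(y : X), (g : X)⁆ ∈ B := by
        rw [show ⁅(y : X), (g : X)⁆ = y * ((g : X) * (y : X)⁻¹ * (g : X)⁻¹) by
          simp only [commutatorElement_def]; group]
        exact B.mul_mem y.2 ((mem_normalizer_iff.1 (hΓ hKB haB g.2) _).1 (B.inv_mem y.2))
      have hcW : (π ⟨_, hcB⟩).toAdd ∈ W := fun g' hg' => by
        simp only [act, hρ]
        refine congrArg (fun c => (π c).toAdd) (Subtype.ext ?_)
        show (g' : X) * _ * (g' : X)⁻¹ = _
        rw [h.fix y (hBD y.2) hya g hg g' hg', mul_inv_cancel_right]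
      rw [hW, Submodule.mem_bot, toAdd_eq_zero] at hcW
      have e1 : π y = π ⟨(g : X) * y * (g : X)⁻¹, (mem_normalizer_iff.1 (hΓ hKB haB g.2) _).1 y.2⟩ := by
        rw [← mul_inv_eq_one, ← map_inv, ← map_mul]
        refine Eq.trans (congrArg π (Subtype.ext ?_)) hcW
        simp only [Subgroup.coe_mul, Subgroup.coe_inv, commutatorElement_def]
        group
      rw [← hyv]
      simp only [act, hρ]
      rw [← e1]
    rw [hW, Submodule.mem_bot] at hyW
    exact hyW
  -- the image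
  set f := ρ.rangeRestrict with hf
  have hfs : Function.Surjective f := ρ.rangeRestrict_surjective
  set G' := (K.subgroupOf Γ).map f with hG'
  set R' := ((zpowers a).subgroupOf Γ).map f with hR'
  haveI : (K.subgroupOf Γ).Normal := normal_subgroupOf_of_le_normalizer hΓK
  haveI : G'.Normal := Subgroup.Normal.map inferInstance f hfs
  have hX : G' ⊔ R' = ⊤ := by
    rw [hG', hR', ← Subgroup.map_sup, ← subgroupOf_sup le_sup_left le_sup_right,
      subgroupOf_eq_top.2 hΓdef.le, map_top_of_surjective _ hfs]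
  let ρ' : Representation (ZMod p) ρ.range V := (Units.coeHom _).comp ρ.range.subtype
  have hρ' : ∀ (g : Γ) v, ρ' (f g) v = act g v := fun g v => rfl
  have hnon : Nontrivial V := by
    by_contra hc
    rw [not_nontrivial_iff_subsingleton] at hc
    refine hne (le_antisymm hMB fun x hx => (hker ⟨x, hx⟩).1 ?_)
    exact Multiplicative.toAdd.injective (Subsingleton.elim _ _)
  have ha0R : f a0 ∈ R' := mem_map_of_mem f (mem_subgroupOf.2 (mem_zpowers a))
  have hRr : Nat.card R' = r := by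
    have hd : Nat.card R' ∣ r := (Subgroup.card_map_dvd _ _).trans (by
      rw [Nat.card_congr (subgroupOfEquivOfLe (le_sup_right : zpowers a ≤ Γ)).toEquiv, Nat.card_zpowers]
      exact orderOf_dvd_of_pow_eq_one h.pow)
    rcases (Nat.dvd_prime h.hr).1 hd with e | e
    · exfalso
      have h1 : f a0 = 1 := by
        have := ha0R
        rwa [R'.eq_bot_of_card_eq e, mem_bot] at this
      obtain ⟨v, hv⟩ := exists_ne (0 : V)
      exact hv (hfix v (by rw [← hρ', h1, map_one]; rfl))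
    · exact e
  have hcop : ¬ r ∣ Nat.card G' := fun hd => h.ndvd (hd.trans ((Subgroup.card_map_dvd _ _).trans (by
    rw [Nat.card_congr (subgroupOfEquivOfLe (le_sup_left : K ≤ Γ)).toEquiv])))
  suffices hone : f ⟨⁅k, a⁆, mem_sup_left hxK⟩ = 1 by
    rw [← hρ', hone, map_one]; rfl
  have hkΓ : k ∈ Γ := mem_sup_left (h.hAK hk)
  have hxe : (⟨⁅k, a⁆, mem_sup_left hxK⟩ : Γ) = ⁅(⟨k, hkΓ⟩ : Γ), a0⁆ :=
    Subtype.ext (map_commutatorElement Γ.subtype ⟨k, hkΓ⟩ a0).symm
  have hmemC : f ⟨⁅k, a⁆, mem_sup_left hxK⟩ ∈ ⁅G', R'⁆ := by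
    rw [hxe, map_commutatorElement]
    exact commutator_mem_commutator (mem_map_of_mem f (mem_subgroupOf.2 (h.hAK hk))) ha0R
  rcases hS G' R' hX r h.hr hRr hcop ρ'
    (fun x y e => Subtype.ext (Units.ext e))
    (fun W' hW' => hsub W' fun g v hv => hρ' g v ▸ hW' (f g) (Submodule.mem_map_of_mem hv))
    (fun v hv => hfix v (hρ' a0 v ▸ hv (f a0) ha0R)) with e | ⟨-, hnc, hsp⟩
  · rwa [e, mem_bot] at hmemC
  · rcases h.hA with hab | hodd
    · refine absurd ⟨⟨fun x y => Subtype.ext ?_⟩⟩ hnc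
      obtain ⟨x', hx', ex⟩ := mem_map.1 (commutator_le_left G' R' x.2)
      obtain ⟨y', hy', ey⟩ := mem_map.1 (commutator_le_left G' R' y.2)
      simp only [Subgroup.coe_mul]
      rw [← ex, ← ey, ← map_mul, ← map_mul]
      exact congrArg f (Subtype.ext (hab x' hx' y' hy'))
    · obtain ⟨j, hj⟩ := hsp.1 ⟨_, hmemC⟩
      set x : Γ := ⟨⁅k, a⁆, mem_sup_left hxK⟩ with hx
      have hj' : f x ^ 2 ^ j = 1 := by
        have := congrArg Subtype.val hj
        simpa using this
      have hd : orderOf (f x) ∣ Nat.card A := (orderOf_map_dvd f x).trans (by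
        rw [← Subgroup.orderOf_coe]
        exact (Subgroup.orderOf_mk (⁅k, a⁆) (h.commutator_mem hk)).symm ▸ orderOf_dvd_natCard _)
      have h1 := Nat.dvd_gcd hd (orderOf_dvd_of_pow_eq_one hj')
      rw [(hodd.coprime_two_right.pow_right j : (Nat.card A).Coprime (2 ^ j)), Nat.dvd_one,
        orderOf_eq_one_iff] at h1
      exact h1

/-- The step: the commutators with the operator lie in normal subgroups whose residual centralises `D`. -/
theorem StepData.exists_normal (hS : CfsgLib.ShultDep.Shult.{0}) (h : StepData p r D K A a) (hk : k ∈ A) :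
    ∃ N ≤ K, K ≤ normalizer (N : Set X) ∧ a ∈ normalizer (N : Set X) ∧ ⁅k, a⁆ ∈ N ∧
      ∀ g ∈ N, (orderOf g).Coprime p → ∀ d ∈ D, d * g = g * d := by
  suffices key : ∀ m, ∀ M B : Subgroup X, Nat.card B - Nat.card M < m → M ≤ B → B ≤ D →
      K ≤ normalizer (B : Set X) → K ≤ normalizer (M : Set X) → a ∈ normalizer (B : Set X) →
      a ∈ normalizer (M : Set X) → B ≤ normalizer (M : Set X) → Centr p K a k B M by
    obtain ⟨N, h1, h2, h3, h4, h5⟩ := key _ ⊥ D (Nat.lt_succ_self _) bot_le le_rfl h.hKD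
      (by rw [Subgroup.normalizer_eq_top]; exact le_top) h.haD (by rw [Subgroup.normalizer_eq_top]; exact mem_top _)
      (by rw [Subgroup.normalizer_eq_top]; exact le_top)
    exact ⟨N, h1, h2, h3, h4, fun g hg hc d hd => commutatorElement_eq_one_iff_mul_comm.1 (mem_bot.1 (h5 g hg hc d hd))⟩
  intro m
  induction m with
  | zero => intro M B hm; omega
  | succ m ih =>
    intro M B hm hMB hBD hKB hKM haB haM hBM
    rcases eq_or_ne M B with rfl | hne
    · refine ⟨K, le_rfl, le_normalizer, h.haK, h.hAK (h.commutator_mem hk), fun g hg _ b hb => ?_⟩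
      rw [show ⁅b, g⁆ = b * (g * b⁻¹ * g⁻¹) by simp only [commutatorElement_def]; group]
      exact M.mul_mem hb ((mem_normalizer_iff.1 (hKB hg) _).1 (M.inv_mem hb))
    by_cases hsplit : ∃ S, M < S ∧ S < B ∧ K ≤ normalizer (S : Set X) ∧ a ∈ normalizer (S : Set X) ∧
        B ≤ normalizer (S : Set X)
    · obtain ⟨S, hMS, hSB, hKS, haS, hBS⟩ := hsplit
      have h1 : Nat.card M < Nat.card S :=
        Set.Finite.card_lt_card (Set.toFinite _) (SetLike.coe_ssubset_coe.2 hMS)
      have h2 : Nat.card S < Nat.card B :=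
        Set.Finite.card_lt_card (Set.toFinite _) (SetLike.coe_ssubset_coe.2 hSB)
      exact Centr.trans (h.hDp.to_le hBD) hMS.le hSB.le hKM (hSB.le.trans hBM)
        (ih M S (by omega) hMS.le (hSB.le.trans hBD) hKS hKM haS haM (hSB.le.trans hBM))
        (ih S B (by omega) hSB.le hBD hKB hKS haB haS hBS)
    set Φ := (frattini B).map B.subtype with hΦ
    have hBp := h.hDp.to_le hBD
    have hnS : ∀ {L : Subgroup X}, L ≤ normalizer (B : Set X) → L ≤ normalizer (M : Set X) →
        L ≤ normalizer ((M ⊔ Φ : Subgroup X) : Set X) := fun h1 h2 =>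
      (le_inf h2 (h1.trans (normalizer_le_frattini_map B))).trans (normalizer_inf_normalizer_le_normalizer_sup M Φ)
    have hΦM : Φ ≤ M := by
      rcases eq_or_lt_of_le (le_sup_left : M ≤ M ⊔ Φ) with e | hlt
      · exact le_sup_right.trans e.ge
      rcases eq_or_lt_of_le (sup_le hMB (map_subtype_le _) : M ⊔ Φ ≤ B) with e | hlt'
      · refine absurd ?_ hne
        refine le_antisymm hMB (subgroupOf_eq_top.1 (frattini_nongenerating (K := M.subgroupOf B) ?_))
        apply map_injective B.subtype_injective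
        rw [Subgroup.map_sup, map_subgroupOf_eq_of_le hMB, ← hΦ, e, ← MonoidHom.range_eq_map, range_subtype]
      · exact absurd ⟨_, hlt, hlt', hnS hKB hKM,
          zpowers_le.1 (hnS (zpowers_le.2 haB) (zpowers_le.2 haM)), hnS le_normalizer hBM⟩ hsplit
    have hcomm : ∀ x ∈ B, ∀ y ∈ B, ⁅x, y⁆ ∈ M := fun x hx y hy => hΦM
      ⟨⁅(⟨x, hx⟩ : B), (⟨y, hy⟩ : B)⁆, CfsgLib.PGroups.commutator_le_frattini' hBp
        (commutator_mem_commutator (mem_top _) (mem_top _)), map_commutatorElement B.subtype _ _⟩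
    refine h.irred hS hk hMB hne hBD hKB hKM haB haM hcomm
      (fun x hx => hΦM ⟨⟨x, hx⟩ ^ p, CfsgLib.PGroups.pow_mem_frattini hBp _, rfl⟩) fun N hMN hNB hKN haN => ?_
    rcases eq_or_lt_of_le hMN with e | hlt
    · exact Or.inl e.symm
    rcases eq_or_lt_of_le hNB with e | hlt'
    · exact Or.inr e
    refine absurd ⟨N, hlt, hlt', hKN, haN, le_normalizer_of_conj_mem fun x hx y hy => ?_⟩ hsplit
    have := N.mul_mem (hMN (hcomm x hx y (hNB hy))) hy
    rwa [show ⁅x, y⁆ * y = x * y * x⁻¹ by simp only [commutatorElement_def]; group] at this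

end CfsgLib.Flavell
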