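import Cfsg.Agent.Lib.Flavell.Auto.Basic
import Cfsg.Agent.Lib.Flavell.Auto.ShultStep

/-!
Owner: helper26 (S1931). Subgroups containing the fixed points in which the fixed elements of order prime to `p` act
faithfully on the meet: no invariant subgroups of order prime to `p` without fixed points, and the layer.
-/

set_option autoImplicit false
set_option linter.unusedSectionVars false
set_option linter.style.haveILetI false

namespace CfsgLib.Flavell

open Cfsg Subgroup CfsgLib.PLocal.ZJCoprime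
open scoped commutatorElement Pointwise

universe u

variable {p q r : ℕ} [Fact p.Prime] {X : Type u} [Group X] [Finite X] {G R H K Q V W : Subgroup X}

theorem coprime_orderOf_of_isPGroup [Fact q.Prime] (hne : q ≠ p) (hQ : IsPGroup q Q) {x : X} (hx : x ∈ Q) :
    (orderOf x).Coprime p := by
  obtain ⟨k, hk⟩ := hQ ⟨x, hx⟩
  exact Nat.Coprime.coprime_dvd_left (orderOf_dvd_of_pow_eq_one (congrArg Subtype.val hk : x ^ q ^ k = 1))
    (((Nat.coprime_primes Fact.out Fact.out).2 hne).pow_left k)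

theorem mem_coreOf_of_comm [Fact q.Prime] (hK : ∀ x ∈ K, ∀ y ∈ K, x * y = y * x) {x : X} (hx : x ∈ K) {k : ℕ}
    (hxk : x ^ q ^ k = 1) : x ∈ coreOf q K := by
  haveI : (zpowers (⟨x, hx⟩ : K)).Normal := ⟨fun y hy g => by
    rwa [show g * y = y * g from Subtype.ext (hK g g.2 y y.2), mul_inv_cancel_right]⟩
  refine mem_map.2 ⟨⟨x, hx⟩, CfsgLib.Core.le_pCore (p := q) ?_ (mem_zpowers _), rfl⟩
  rintro ⟨z, hz⟩
  obtain ⟨i, rfl⟩ := mem_zpowers_iff.1 hz
  refine ⟨k, Subtype.ext (Subtype.ext ?_)⟩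
  simp only [SubmonoidClass.coe_pow, SubgroupClass.coe_zpow, coe_one]
  rw [← zpow_natCast, ← zpow_mul, mul_comm, zpow_mul, zpow_natCast, hxk, one_zpow]

theorem coreOf_le_coreOf [Fact q.Prime] (hKH : K ≤ H) (hn : H ≤ normalizer (K : Set X)) :
    coreOf q K ≤ coreOf q H :=
  le_pCore_map (coreOf_le.trans hKH) (hn.trans normalizer_le_coreOf) coreOf_isPGroup

/-- Test for a `p`-group. -/
theorem isPGroup_of_coprime_eq_one (hK : ∀ g ∈ K, (orderOf g).Coprime p → g = 1) : IsPGroup p K := fun ⟨g, hg⟩ => by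
  obtain ⟨k, hk⟩ := CfsgLib.Transfer.exists_pow_prime_pow_coprime (p := p) g
  exact ⟨k, Subtype.ext (hK _ (K.pow_mem hg _) hk)⟩

theorem eq_bot_of_inter {U : Subgroup X} [Fact q.Prime] (hne : q ≠ p) (hU : IsPGroup p U) (hQ : IsPGroup q Q) :
    U ⊓ Q = ⊥ :=
  le_bot_iff.1 fun _ hx => mem_bot.2
    (eq_one_of_pow_coprime hU hx.1 (coprime_orderOf_of_isPGroup hne hQ hx.2) (pow_orderOf_eq_one _))

/-- Invariant subgroups containing the fixed points, faithful for the meet. -/
structure Loc (p : ℕ) (G R H : Subgroup X) : Prop where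
  le : H ≤ G
  norm : R ≤ normalizer (H : Set X)
  fix : G ⊓ centralizer (R : Set X) ≤ H
  star : ∀ t ∈ G ⊓ centralizer (R : Set X), (orderOf t).Coprime p →
    (∀ x ∈ invInter p G R ⊓ H, x * t = t * x) → t = 1

variable (h : Sit p r G R)
include h

theorem Sit.loc_self : Loc p G R G :=
  ⟨le_rfl, h.norm, inf_le_left, fun _ ht htp hx =>
    h.star ht htp fun x hxP => hx x ⟨hxP, (h.setup le_rfl h.norm).invInter_le hxP⟩⟩

theorem Loc.fix_normalizes_meet (hL : Loc p G R H) :
    G ⊓ centralizer (R : Set X) ≤ normalizer ((invInter p G R ⊓ H : Subgroup X) : Set X) :=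
  (le_inf (h.setup le_rfl h.norm).centralizing_le_normalizer_invInter (hL.fix.trans le_normalizer)).trans
    inf_normalizer_le_normalizer_inf

theorem Loc.oper_normalizes_meet (hL : Loc p G R H) :
    R ≤ normalizer ((invInter p G R ⊓ H : Subgroup X) : Set X) :=
  (le_inf (h.setup le_rfl h.norm).le_normalizer_invInter hL.norm).trans inf_normalizer_le_normalizer_inf

theorem Sit.meet_isPGroup : IsPGroup p (invInter p G R ⊓ H : Subgroup X) :=
  (h.setup le_rfl h.norm).invInter_isPGroup.to_le inf_le_left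

/-- Normalisers of invariant subgroups of the meet stay faithful. -/
theorem Loc.inf_normalizer (hL : Loc p G R H) (hW : W ≤ invInter p G R ⊓ H) (hWR : R ≤ normalizer (W : Set X))
    (hWC : G ⊓ centralizer (R : Set X) ≤ normalizer (W : Set X)) : Loc p G R (H ⊓ normalizer (W : Set X)) := by
  refine ⟨inf_le_left.trans hL.le, ?_, le_inf hL.fix hWC, fun t ht htp hx => hL.star t ht htp fun x hxU => ?_⟩
  · refine le_normalizer_of_conj_mem fun a ha x hx => ⟨conj_mem (hL.norm ha) hx.1, ?_⟩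
    exact (normalizer (W : Set X)).mul_mem ((normalizer (W : Set X)).mul_mem (hWR ha) hx.2)
      ((normalizer (W : Set X)).inv_mem (hWR ha))
  · have hzc : ∀ {x : X}, x * t = t * x → x ∈ centralizer (zpowers t : Set X) := fun {x} hxt => by
      refine mem_centralizer_iff.2 fun y hy => ?_
      obtain ⟨i, rfl⟩ := mem_zpowers_iff.1 hy
      exact ((show Commute x t from hxt).zpow_right i).eq.symm
    have hWt : W ≤ centralizer (zpowers t : Set X) := fun w hw =>
      hzc (hx w ⟨(hW hw).1, (hW hw).2, le_normalizer hw⟩)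
    have := CfsgLib.Core.pq_lemma (p := p) ((Sit.meet_isPGroup h (H := H)).to_le hW)
      (Q := zpowers t) (by rwa [Nat.card_zpowers]) (Sit.meet_isPGroup h (H := H)) hWt (hW.trans le_normalizer)
      (zpowers_le.2 (hL.fix_normalizes_meet h ht)) fun y hy => hzc (hx y ⟨hy.1.1, hy.1.2, ?_⟩)
    · exact (mem_centralizer_iff.1 (this (mem_zpowers t)) x hxU)
    · refine mem_normalizer_iff.2 fun w => ?_
      constructor
      · intro hw
        rwa [← mem_centralizer_iff.1 hy.2 w hw, mul_inv_cancel_right]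
      · intro hw
        have e := mem_centralizer_iff.1 hy.2 _ hw
        rw [mul_assoc, mul_assoc, inv_mul_cancel, mul_one] at e
        have : y * w * y⁻¹ = w := by
          have := congrArg (fun z => y⁻¹ * z) e
          simpa [mul_assoc, eq_comm] using this
        rwa [this] at hw

/-- No invariant subgroup of prime power order prime to `p` normalised by the fixed points and meeting them
trivially. -/
theorem Sit.no_q_sub (hS : CfsgLib.ShultDep.Shult.{0}) [Fact q.Prime] (hne : q ≠ p) (hQG : Q ≤ G)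
    (hQ : IsPGroup q Q) (hQR : R ≤ normalizer (Q : Set X))
    (hQC : G ⊓ centralizer (R : Set X) ≤ normalizer (Q : Set X)) (hQfix : Q ⊓ centralizer (R : Set X) = ⊥) :
    Q = ⊥ := by
  by_contra hQne
  obtain ⟨e, he, he1, hQe⟩ : ∃ e ∈ R, e ≠ 1 ∧ Q ⊓ centralizer ({e} : Set X) ≠ ⊥ := by
    by_contra hc
    push Not at hc
    exact hQne (le_bot_iff.1 (h.le_of_fixed hQG hQR fun a ha ha1 => (hc a ha ha1).le))
  obtain ⟨a, ha, ha1, hgen⟩ := h.exists_gen he he1
  set Qe := Q ⊓ centralizer ({e} : Set X) with hQedef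
  set A := zIn Qe with hAdef
  have hAne : A ≠ ⊥ := by
    haveI := (Subgroup.nontrivial_iff_ne_bot Qe).2 hQe
    haveI := (hQ.to_le inf_le_left : IsPGroup q Qe).center_nontrivial
    obtain ⟨⟨z, hz⟩, hz1⟩ := exists_ne (1 : Subgroup.center Qe)
    replace hz1 : z ≠ 1 := fun e => hz1 (Subtype.ext e)
    intro e
    have : (z : X) ∈ A := ⟨z.2, mem_centralizer_iff.2 fun y hy =>
      congrArg Subtype.val (Subgroup.mem_center_iff.1 hz ⟨y, hy⟩)⟩
    rw [e, mem_bot] at this
    exact hz1 (Subtype.ext this)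
  have hRQe : R ≤ normalizer (Qe : Set X) :=
    (le_inf hQR (h.normalizes_fix he)).trans inf_normalizer_le_normalizer_inf
  have hRA : R ≤ normalizer (A : Set X) := hRQe.trans (normalizer_le_zIn Qe)
  have hAH : A ≤ fixOf G e := fun x hx => ⟨hQG hx.1.1, hx.1.2⟩
  set D := coreOf p (fixOf G e)
  have hQeD : Qe ≤ normalizer (D : Set X) :=
    (show Qe ≤ fixOf G e from fun x hx => ⟨hQG hx.1, hx.2⟩).trans (le_normalizer.trans normalizer_le_coreOf)
  have hfix : ∀ y ∈ D, y * a = a * y → ∀ g ∈ Qe, ⁅y, g⁆ = 1 := by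
    intro y hy hya g hg
    have hyH := mem_fixOf.1 (coreOf_le hy)
    have hyC : y ∈ G ⊓ centralizer (R : Set X) := ⟨hyH.1, fixed_of_gen hgen hyH.2 hya⟩
    have h1 : ⁅y, g⁆ ∈ D := by
      rw [show ⁅y, g⁆ = y * (g * y⁻¹ * g⁻¹) by simp only [commutatorElement_def]; group]
      exact D.mul_mem hy (conj_mem (hQeD hg) (D.inv_mem hy))
    have h2 : ⁅y, g⁆ ∈ Q := by
      rw [commutatorElement_def]
      exact Q.mul_mem (conj_mem (hQC hyC) hg.1) (Q.inv_mem hg.1)
    exact mem_bot.1 ((eq_bot_of_inter hne coreOf_isPGroup hQ).le ⟨h1, h2⟩)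
  have hd : StepData p r D A A a := by
    refine ⟨h.hr, fun hd => h.ndvd (hd.trans (card_dvd_of_le (coreOf_le.trans inf_le_left))), h.exp a ha,
      fun hd => h.ndvd (hd.trans (card_dvd_of_le (hAH.trans inf_le_left))), coreOf_isPGroup,
      inf_le_left.trans hQeD, (h.normalizes_fixOf he).trans normalizer_le_coreOf ha, hRA ha, hRA ha, le_rfl,
      Or.inl fun x hx y hy => (mem_centralizer_iff.1 hy.2 x hx.1), fun y hy hya x hx x' _ => ?_⟩
    rw [hfix y hy hya x hx.1, mul_one, one_mul]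
  refine hAne (le_bot_iff.1 fun k hk => mem_bot.2 ?_)
  obtain ⟨N, hN, -, -, hkN, hcen⟩ := hd.exists_normal hS hk
  have hxA : ⁅k, a⁆ ∈ A := hN hkN
  have hxc := coprime_orderOf_of_isPGroup hne hQ hxA.1.1
  have hxfix := (h.l0 he he1 (hAH hxA) hxc (hcen _ hkN hxc)).1
  have hx1 : ⁅k, a⁆ = 1 := mem_bot.1 (hQfix.le ⟨hxA.1.1, hxfix⟩)
  have : k ∈ centralizer (R : Set X) :=
    fixed_of_gen hgen (mem_fixOf.1 (hAH hk)).2 (commutatorElement_eq_one_iff_mul_comm.1 hx1)
  exact mem_bot.1 (hQfix.le ⟨hk.1.1, this⟩)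

theorem Loc.qCore_eq_bot (hS : CfsgLib.ShultDep.Shult.{0}) (hL : Loc p G R H) [Fact q.Prime] (hne : q ≠ p) :
    coreOf q H = ⊥ := by
  have hQH : coreOf q H ≤ H := coreOf_le
  refine h.no_q_sub hS hne (hQH.trans hL.le) coreOf_isPGroup (hL.norm.trans normalizer_le_coreOf)
    ((hL.fix.trans le_normalizer).trans normalizer_le_coreOf) (le_bot_iff.1 fun t ht => mem_bot.2 ?_)
  have htC : t ∈ G ⊓ centralizer (R : Set X) := ⟨hL.le (hQH ht.1), ht.2⟩
  refine hL.star t htC (coprime_orderOf_of_isPGroup hne coreOf_isPGroup ht.1) fun u hu => ?_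
  refine commutatorElement_eq_one_iff_mul_comm.1 (mem_bot.1 ((eq_bot_of_inter hne (Sit.meet_isPGroup h (H := H))
    (coreOf_isPGroup (p := q) (G := H))).le ⟨?_, ?_⟩))
  · rw [show ⁅u, t⁆ = u * (t * u⁻¹ * t⁻¹) by simp only [commutatorElement_def]; group]
    exact Subgroup.mul_mem _ hu (conj_mem (hL.fix_normalizes_meet h htC) (Subgroup.inv_mem _ hu))
  · rw [commutatorElement_def]
    exact Subgroup.mul_mem _ (conj_mem (normalizer_le_coreOf (le_normalizer hu.2)) ht.1) (Subgroup.inv_mem _ ht.1)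

theorem Loc.fstarOf_le (hS : CfsgLib.ShultDep.Shult.{0}) (hL : Loc p G R H) (hE : layOf H = ⊥) :
    fstarOf H ≤ coreOf p H := by
  rw [fstarOf, Cfsg.generalizedFittingSubgroup, Subgroup.map_sup]
  refine sup_le (hE.le.trans bot_le) ?_
  rw [CfsgLib.Core.fittingSubgroup_eq_iSup_pCore, Subgroup.map_iSup]
  refine iSup_le fun q => ?_
  haveI := Fact.mk q.2
  rcases eq_or_ne (q : ℕ) p with e | e
  · rw [e]; exact le_rfl
  · exact (hL.qCore_eq_bot h hS e).le.trans bot_le

/-- The centre of the layer is a `p`-group in the meet. -/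
theorem Loc.centre_layOf (hS : CfsgLib.ShultDep.Shult.{0}) (hL : Loc p G R H) :
    IsPGroup p (layOf H ⊓ centralizer (layOf H : Set X) : Subgroup X) ∧
      layOf H ⊓ centralizer (layOf H : Set X) ≤ invInter p G R ⊓ H := by
  set E := layOf H
  set Z := E ⊓ centralizer (E : Set X)
  have hcomm : ∀ x ∈ Z, ∀ y ∈ Z, x * y = y * x := fun x hx y hy => mem_centralizer_iff.1 hy.2 x hx.1
  have hEn : H ≤ normalizer (E : Set X) := le_normalizer.trans normalizer_le_layOf
  have hZn : ∀ {L : Subgroup X}, L ≤ normalizer (E : Set X) → L ≤ normalizer (Z : Set X) := fun hL' =>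
    (le_inf hL' (hL'.trans (normalizer_le_centralizer' E))).trans inf_normalizer_le_normalizer_inf
  have hZH : Z ≤ H := inf_le_left.trans layOf_le
  have hp : IsPGroup p Z := by
    refine isPGroup_of_coprime_eq_one fun g hg hgc => ?_
    by_contra hg1
    obtain ⟨q, hq, hqd⟩ := Nat.exists_prime_and_dvd (n := orderOf g) (fun e => hg1 (orderOf_eq_one_iff.1 e))
    haveI := Fact.mk hq
    have hne : q ≠ p := fun e => hq.ne_one (Nat.eq_one_of_dvd_coprimes hgc hqd (e ▸ dvd_rfl))
    have ho : orderOf (g ^ (orderOf g / q)) = q := orderOf_pow_orderOf_div (orderOf_pos g).ne' hqd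
    have := coreOf_le_coreOf hZH (hZn hEn)
      (mem_coreOf_of_comm (q := q) (k := 1) hcomm (Z.pow_mem hg (orderOf g / q))
        (by rw [pow_one]; exact orderOf_dvd_iff_pow_eq_one.1 (dvd_of_eq ho)))
    rw [hL.qCore_eq_bot h hS hne, mem_bot] at this
    rw [this, orderOf_one] at ho
    exact hq.ne_one ho.symm
  exact ⟨hp, le_inf (h.mem_invInter_of le_rfl h.norm (hZH.trans hL.le) hp
    (hZn (hL.norm.trans normalizer_le_layOf)) (hZn (hL.fix.trans hEn))) hZH⟩

omit h in
theorem layOf_normal_pgroup_central (hVE : V ≤ layOf H) (hV : IsPGroup p V)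
    (hn : layOf H ≤ normalizer (V : Set X)) : V ≤ centralizer (layOf H : Set X) := fun v hv =>
  mem_centralizer_iff.2 fun x hx => layOf_commute hx
    (coreOf_le_coreOf layOf_le (le_normalizer.trans normalizer_le_layOf) (le_pCore_map hVE hn hV hv))

omit h in
/-- A `p`-group and the layer normalising each other commute. -/
theorem centralizes_of_mutual (hW : IsPGroup p W) (hEW : layOf H ≤ normalizer (W : Set X))
    (hWE : W ≤ normalizer (layOf H : Set X)) : layOf H ≤ centralizer (W : Set X) := by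
  set E := layOf H with hE
  have h1 : ⁅E, W⁆ ≤ E := le_normalizer_iff_commutator_le_left.mp hWE
  have h2 : ⁅E, W⁆ ≤ W := by rw [commutator_comm]; exact le_normalizer_iff_commutator_le_left.mp hEW
  have h3 := layOf_normal_pgroup_central h1 (hW.to_le h2) ((le_inf le_normalizer hEW).trans (normalizer_le_comm E W))
  have e1 : ⁅⁅E, W⁆, E⁆ = ⊥ := commutator_eq_bot_iff_le_centralizer.2 h3
  have e2 : ⁅⁅W, E⁆, E⁆ = ⊥ := by rwa [commutator_comm W E]
  have e3 := commutator_commutator_eq_bot_of_rotate e1 e2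
  rw [hE, layOf_perfect, commutator_eq_bot_iff_le_centralizer] at e3
  exact e3

omit h in
theorem layOf_eq_bot_of_pgroup (hE : IsPGroup p (layOf H)) : layOf H = ⊥ := by
  rw [← layOf_perfect, commutator_eq_bot_iff_le_centralizer]
  exact layOf_normal_pgroup_central le_rfl hE le_normalizer

/-- The fixed points of the layer are not central. -/
theorem Loc.fixed_not_central (hS : CfsgLib.ShultDep.Shult.{0}) (hL : Loc p G R H) (hne : layOf H ≠ ⊥) :
    ¬ layOf H ⊓ centralizer (R : Set X) ≤ centralizer (layOf H : Set X) := by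
  intro hc
  set E := layOf H
  refine hne (layOf_eq_bot_of_pgroup (p := p) (isPGroup_of_coprime_eq_one fun g hg hgc => ?_))
  by_contra hg1
  obtain ⟨q, hq, hqd⟩ := Nat.exists_prime_and_dvd (n := orderOf g) (fun e => hg1 (orderOf_eq_one_iff.1 e))
  haveI := Fact.mk hq
  have hqp : q ≠ p := fun e => hq.ne_one (Nat.eq_one_of_dvd_coprimes hgc hqd (e ▸ dvd_rfl))
  have hEG : E ≤ G := layOf_le.trans hL.le
  have hRE : R ≤ normalizer (E : Set X) := hL.norm.trans normalizer_le_layOf
  have hcop := h.coprime_card hEG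
  obtain ⟨S, hS0⟩ := CfsgLib.Core.exists_invariant_sylow hRE hcop (Or.inl h.solvableR) q
  set S0 := (S : Subgroup E).map E.subtype
  have huniq : ∀ Q : Subgroup X, Q ≤ E → IsPGroup q Q → R ≤ normalizer (Q : Set X) → Q ≤ S0 := by
    intro Q hQE hQ hQR x hx
    obtain ⟨T, hQT, hT⟩ := CfsgLib.Core.exists_invariant_sylow_ge hRE hcop (Or.inl h.solvableR) hQE hQ hQR
    obtain ⟨c, hcR, rfl⟩ := CfsgLib.Core.invariant_sylow_conj hRE hcop (Or.inl h.solvableR) S T hS0 hT
    have h1 := hQT hx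
    rw [← CfsgLib.Core.sylow_map_conj_smul, CfsgLib.Core.mem_conj_smul_iff] at h1
    have e := mem_centralizer_iff.1 (hc ⟨c.2, hcR⟩) x (hQE hx)
    rwa [mul_assoc, e, ← mul_assoc, inv_mul_cancel, one_mul] at h1
  have hS0E : S0 ≤ E := map_subtype_le _
  have hS0p : IsPGroup q S0 := S.isPGroup'.map _
  have hCE : G ⊓ centralizer (R : Set X) ≤ normalizer (E : Set X) :=
    (hL.fix.trans le_normalizer).trans normalizer_le_layOf
  have hCS : G ⊓ centralizer (R : Set X) ≤ normalizer (S0 : Set X) := le_normalizer_of_conj_mem fun c hc' x hx => by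
    refine huniq (S0.map (MulAut.conj c).toMonoidHom) ?_ (hS0p.map _) ?_ (mem_map_of_mem _ hx)
    · rintro _ ⟨y, hy, rfl⟩
      exact conj_mem (hCE hc') (hS0E hy)
    · refine le_normalizer_of_conj_mem fun ρ hρ y hy => ?_
      obtain ⟨z, hz, rfl⟩ := hy
      refine ⟨ρ * z * ρ⁻¹, conj_mem (hS0 hρ) hz, ?_⟩
      have e : ρ * c = c * ρ := mem_centralizer_iff.1 hc'.2 ρ hρ
      show c * (ρ * z * ρ⁻¹) * c⁻¹ = ρ * (c * z * c⁻¹) * ρ⁻¹
      calc c * (ρ * z * ρ⁻¹) * c⁻¹ = (c * ρ) * z * (c * ρ)⁻¹ := by group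
        _ = (ρ * c) * z * (ρ * c)⁻¹ := by rw [e]
        _ = _ := by group
  have hbot := h.no_q_sub hS hqp (hS0E.trans hEG) hS0p hS0 hCS (le_bot_iff.1 fun x hx => mem_bot.2
    (eq_one_of_pow_coprime (hL.centre_layOf h hS).1 ⟨hS0E hx.1, hc ⟨hS0E hx.1, hx.2⟩⟩
      (coprime_orderOf_of_isPGroup hqp hS0p hx.1) (pow_orderOf_eq_one _)))
  have hdvd : q ∣ Nat.card E := hqd.trans (Subgroup.orderOf_mk g hg ▸ orderOf_dvd_natCard _)
  refine S.ne_bot_of_dvd_card hdvd (map_injective E.subtype_injective ?_)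
  rw [Subgroup.map_bot]
  exact hbot

end CfsgLib.Flavell
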