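import Cfsg.Agent.Lib.Components.FStar
import Cfsg.Agent.Lib.Core.Cores

/-!
Owner: helper26 (S1931). The generalised Fitting subgroup of a central quotient is the image.
-/

set_option autoImplicit false
set_option linter.unusedSectionVars false
set_option linter.style.haveILetI false

namespace CfsgLib.Flavell

open Cfsg Subgroup
open scoped commutatorElement

universe u v

variable {K : Type u} [Group K] [Finite K] {H : Type v} [Group H]

theorem component_preimage (f : K →* H) (hf : Function.Surjective f) (hker : f.ker ≤ Subgroup.center K)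
    {Lb : Subgroup H} (hLb : Cfsg.IsComponent Lb) : ∃ L : Subgroup K, Cfsg.IsComponent L ∧ L.map f = Lb := by
  set T := Lb.comap f with hT
  set L := ⁅T, T⁆ with hL
  have hperfLb := CfsgLib.Components.IsComponent.commutator_eq_self hLb
  have hLT : L ≤ T := commutator_le_self T
  have hmap : L.map f = Lb := by
    rw [hL, Subgroup.map_commutator, hT, Subgroup.map_comap_eq_self_of_surjective hf, hperfLb]
  have hTL : T ≤ L ⊔ f.ker := by
    rw [← Subgroup.comap_map_eq, hmap]
  have hdec : ∀ x ∈ T, ∃ l ∈ L, ∃ z ∈ f.ker, x = l * z := fun x hx => by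
    obtain ⟨l, hl, z, hz, e⟩ := mem_sup_of_normal_right.1 (hTL hx)
    exact ⟨l, hl, z, hz, e.symm⟩
  have hperf : ⁅L, L⁆ = L := by
    refine le_antisymm (commutator_le_self L) (commutator_le.2 fun x hx y hy => ?_)
    obtain ⟨l, hl, z, hz, rfl⟩ := hdec x hx
    obtain ⟨l', hl', z', hz', rfl⟩ := hdec y hy
    have e1 := Subgroup.mem_center_iff.1 (hker hz) (l' * z')
    have e2 := Subgroup.mem_center_iff.1 (hker hz') l
    rw [show ⁅l * z, l' * z'⁆ = l * (z * (l' * z')) * z⁻¹ * l⁻¹ * z'⁻¹ * l'⁻¹ by
        simp only [commutatorElement_def]; group, ← e1,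
      show l * (l' * z' * z) * z⁻¹ * l⁻¹ * z'⁻¹ * l'⁻¹ = l * l' * (z' * l⁻¹) * z'⁻¹ * l'⁻¹ by group,
      ← (show Commute l z' from e2).inv_left.eq,
      show l * l' * (l⁻¹ * z') * z'⁻¹ * l'⁻¹ = ⁅l, l'⁆ by simp only [commutatorElement_def]; group]
    exact commutator_mem_commutator hl hl'
  have hsn : L.IsSubnormal := by
    rw [hL, ← Subgroup.map_subtype_commutator]
    exact (inferInstance : (commutator T).Normal).isSubnormal.trans' (hLb.1.comap f)
  refine ⟨L, ⟨hsn, ?_⟩, hmap⟩
  haveI : Group.IsPerfect L := Subgroup.isPerfect_iff.2 hperf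
  haveI : Nontrivial L := (Subgroup.nontrivial_iff_ne_bot L).2 fun e => by
    rw [e, Subgroup.map_bot] at hmap
    exact CfsgLib.Components.IsComponent.ne_bot hLb hmap.symm
  refine CfsgLib.Components.isQuasisimple_of_normal_le_center fun M hM hne => ?_
  let g : L →* Lb := (f.comp L.subtype).codRestrict Lb fun x => hmap.le (mem_map_of_mem f x.2)
  have hg : Function.Surjective g := fun y => by
    obtain ⟨x, hx, e⟩ := mem_map.1 (hmap.ge y.2)
    exact ⟨⟨x, hx⟩, Subtype.ext e⟩
  rcases CfsgLib.Components.IsQuasisimple.normal_le_center_or_eq_top hLb.2 (hM.map g hg) with hc | ht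
  · have h1 : ⁅⁅M, (⊤ : Subgroup L)⁆, (⊤ : Subgroup L)⁆ = ⊥ := by
      rw [commutator_eq_bot_iff_le_centralizer, commutator_le]
      intro m hm l _
      refine mem_centralizer_iff.2 fun y _ => ?_
      have e : g ⁅m, l⁆ = 1 := by
        rw [map_commutatorElement, commutatorElement_eq_one_iff_mul_comm]
        exact (Subgroup.mem_center_iff.1 (hc (mem_map_of_mem g hm)) (g l)).symm
      exact Subtype.ext (Subgroup.mem_center_iff.1 (hker (show ((⁅m, l⁆ : L) : K) ∈ f.ker from
        congrArg Subtype.val e)) y)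
    have h2 : ⁅⁅(⊤ : Subgroup L), M⁆, (⊤ : Subgroup L)⁆ = ⊥ := by rwa [commutator_comm (⊤ : Subgroup L) M]
    have h3 := commutator_commutator_eq_bot_of_rotate h2 h1
    rw [← commutator_def, Group.IsPerfect.commutator_eq_top, commutator_eq_bot_iff_le_centralizer] at h3
    exact fun m hm => Subgroup.mem_center_iff.2 fun y => (mem_centralizer_iff.1 (h3 (mem_top y)) m hm).symm
  · refine absurd ?_ hne
    rw [eq_top_iff, ← Group.IsPerfect.commutator_eq_top (G := L), commutator_def, commutator_le]
    intro x _ y _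
    obtain ⟨m, hm, ex⟩ := mem_map.1 (ht.ge (mem_top (g x)))
    have hz : ((m⁻¹ * x : L) : K) ∈ f.ker := congrArg Subtype.val (by rw [map_mul, map_inv, ex, inv_mul_cancel] :
      g (m⁻¹ * x) = 1)
    have hzy : y * (m⁻¹ * x) = (m⁻¹ * x) * y := Subtype.ext (Subgroup.mem_center_iff.1 (hker hz) y)
    rw [show ⁅x, y⁆ = m * ((m⁻¹ * x) * y) * (m⁻¹ * x)⁻¹ * m⁻¹ * y⁻¹ by simp only [commutatorElement_def]; group,
      ← hzy, show m * (y * (m⁻¹ * x)) * (m⁻¹ * x)⁻¹ * m⁻¹ * y⁻¹ = m * (y * m⁻¹ * y⁻¹) by group]
    exact M.mul_mem hm (hM.conj_mem _ (M.inv_mem hm) y)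

/-- The generalised Fitting subgroup of a central quotient lifts. -/
theorem gFitting_central_le [Finite H] (f : K →* H) (hf : Function.Surjective f)
    (hker : f.ker ≤ Subgroup.center K) :
    Cfsg.generalizedFittingSubgroup H ≤ (Cfsg.generalizedFittingSubgroup K).map f := by
  refine sup_le (CfsgLib.Components.layer_le_iff.2 fun Lb hLb => ?_) ?_
  · obtain ⟨L, hL, rfl⟩ := component_preimage f hf hker hLb
    exact map_mono (CfsgLib.Components.component_le_gFitting hL)
  · haveI := CfsgLib.Components.fitting_normal (G := H)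
    set Y := (Cfsg.fittingSubgroup H).comap f with hY
    haveI : Y.Normal := inferInstance
    haveI := CfsgLib.Core.isNilpotent_fittingSubgroup H
    haveI hn : Group.IsNilpotent Y := Subgroup.isNilpotent_of_ker_le_center (f.subgroupComap (Cfsg.fittingSubgroup H))
      fun y hy => Subgroup.mem_center_iff.2 fun w => Subtype.ext
        (Subgroup.mem_center_iff.1 (hker (show (y : K) ∈ f.ker from congrArg Subtype.val (MonoidHom.mem_ker.1 hy))) w)
    have h1 : Y ≤ Cfsg.generalizedFittingSubgroup K :=
      (CfsgLib.Components.le_fitting inferInstance hn).trans CfsgLib.Components.fitting_le_gFitting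
    rw [← Subgroup.map_comap_eq_self_of_surjective hf (Cfsg.fittingSubgroup H), ← hY]
    exact map_mono h1

end CfsgLib.Flavell
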