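import Cfsg.Agent.Lib.Flavell.Auto.Layer
import Cfsg.Agent.Lib.Flavell.Auto.Quotient
import Cfsg.Agent.Lib.Core.Nilpotent

/-!
Owner: helper26 (S1931). The reduction: the operators centralise the residual of the generalised Fitting subgroup.
-/

set_option autoImplicit false
set_option linter.unusedSectionVars false
set_option linter.style.haveILetI false
set_option linter.unusedVariables false

namespace CfsgLib.Flavell

open Cfsg Subgroup CfsgLib.PLocal.ZJCoprime
open scoped commutatorElement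

universe u v

variable {p r : ℕ} [Fact p.Prime] {X : Type u} [Group X] [Finite X] {G R E H K : Subgroup X}

theorem map_fstarOf {Y : Type v} [Group Y] (f : Y →* X) (hf : Function.Injective f) [Finite Y] (K : Subgroup Y) :
    (fstarOf K).map f = fstarOf (K.map f) := by
  show ((Cfsg.generalizedFittingSubgroup K).map K.subtype).map f = (Cfsg.generalizedFittingSubgroup (K.map f)).map _
  rw [← CfsgLib.Components.gFitting_map_equiv (K.equivMapOfInjective f hf), Subgroup.map_map, Subgroup.map_map]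
  rfl

theorem fstarOf_le_of_normal (hKH : K ≤ H) (hn : H ≤ normalizer (K : Set X)) : fstarOf K ≤ fstarOf H := by
  haveI : (K.subgroupOf H).Normal := normal_subgroupOf_of_le_normalizer hn
  have h1 : fstarOf (K.subgroupOf H) ≤ Cfsg.generalizedFittingSubgroup H :=
    (CfsgLib.Components.gFitting_normal_subgroup (inferInstance : (K.subgroupOf H).Normal)).le.trans inf_le_left
  have h2 : (fstarOf (K.subgroupOf H)).map H.subtype ≤ fstarOf H := map_mono h1
  rwa [map_fstarOf H.subtype H.subtype_injective, map_subgroupOf_eq_of_le hKH] at h2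

/-- A group equal to its layer, with `r`-elementary operators of rank two, is centralised by them. -/
theorem layer_fixed {Y : Type u} [Group Y] [Finite Y] (hS : CfsgLib.ShultDep.Shult.{0}) (hp5 : 5 ≤ p)
    (hr : r.Prime) (E R : Subgroup Y) (hEn : E.Normal) (hlay : Cfsg.layer E = ⊤) (hperf : ⁅E, E⁆ = E)
    (hcard : Nat.card R = r ^ 2) (hexp : ∀ a ∈ R, a ^ r = 1) (hcomm : ∀ a ∈ R, ∀ b ∈ R, a * b = b * a)
    (hndvd : ¬ r ∣ Nat.card E)
    (hyp : ∀ a ∈ R, a ≠ 1 → ∀ g ∈ fstarOf (fixOf E a), (orderOf g).Coprime p → g ∈ centralizer (R : Set Y)) :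
    E ≤ centralizer (R : Set Y) := by
  classical
  set N := E ⊓ centralizer (E : Set Y) with hN
  haveI := hEn
  haveI hNn : N.Normal := by rw [hN]; infer_instance
  set φ := QuotientGroup.mk' N with hφ
  have hker : φ.ker = N := QuotientGroup.ker_mk' N
  set E1 := E.map φ with hE1
  set R1 := R.map φ with hR1
  set G1 := ⁅E1, R1⁆ with hG1
  have hcop : (Nat.card R).Coprime (Nat.card E) := by
    rw [hcard]; exact ((hr.coprime_iff_not_dvd).2 hndvd).pow_left 2
  have hRE : R ≤ normalizer (E : Set Y) := le_normalizer_of_normal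
  have hinj : ∀ x ∈ R, φ x = 1 → x = 1 := fun x hx e => by
    have h1 : x ∈ R ⊓ E := ⟨hx, (show x ∈ N by rw [← hker]; exact e).1⟩
    rwa [(Subgroup.disjoint_of_coprime_natCard hcop).eq_bot, mem_bot] at h1
  have hcard1 : Nat.card R1 = r ^ 2 := by
    rw [← hcard]
    refine (Nat.card_congr ?_).symm
    refine Equiv.ofBijective (fun x : R => (⟨φ x, mem_map_of_mem φ x.2⟩ : R1)) ⟨fun x y e => ?_, fun y => ?_⟩
    · refine Subtype.ext (mul_inv_eq_one.1 (hinj _ (R.mul_mem x.2 (R.inv_mem y.2)) ?_))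
      rw [map_mul, map_inv, mul_inv_eq_one]
      exact congrArg Subtype.val e
    · obtain ⟨x, hx, e⟩ := mem_map.1 y.2
      exact ⟨⟨x, hx⟩, Subtype.ext e⟩
  have hR1E1 : R1 ≤ normalizer (E1 : Set (Y ⧸ N)) := (map_mono hRE).trans (le_normalizer_map φ)
  have hcop1 : (Nat.card R1).Coprime (Nat.card E1) :=
    (hcop.coprime_dvd_left (Subgroup.card_map_dvd R φ)).coprime_dvd_right (Subgroup.card_map_dvd E φ)
  have hsolvR : Group.IsSolvable R1 := Group.isSolvable_of_comm fun a b => Subtype.ext (by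
    obtain ⟨x, hx, ex⟩ := mem_map.1 a.2
    obtain ⟨y, hy, ey⟩ := mem_map.1 b.2
    simp only [Subgroup.coe_mul, ← ex, ← ey, ← map_mul, hcomm x hx y hy])
  have hG1E1 : G1 ≤ E1 := CfsgLib.Core.commutator_le_of_normalizes hR1E1
  have hnG1 := CfsgLib.Core.le_normalizer_commutator_self (A := R1) (K := E1)
  -- solvable invariant subgroups of the quotient are trivial
  have hsolv : ∀ A : Subgroup (Y ⧸ N), A ≤ E1 → E1 ≤ normalizer (A : Set (Y ⧸ N)) → Group.IsSolvable A → A = ⊥ := by
    intro A hAE hAn hA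
    set P1 := A.comap φ ⊓ E with hP1
    have hP1E : P1 ≤ E := inf_le_right
    have hEP1 : E ≤ normalizer (P1 : Set Y) := le_normalizer_of_conj_mem fun x hx y hy => ⟨by
      show φ (x * y * x⁻¹) ∈ A
      rw [map_mul, map_mul, map_inv]
      exact conj_mem (hAn (mem_map_of_mem φ hx)) hy.1, E.mul_mem (E.mul_mem hx hy.2) (E.inv_mem hx)⟩
    haveI := hA
    haveI : Group.IsSolvable N := Group.isSolvable_of_comm fun a b =>
      Subtype.ext (mem_centralizer_iff.1 b.2.2 a a.2.1)
    have hPs : Group.IsSolvable P1 := by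
      have hNP : N ≤ P1 := fun x hx => ⟨by
        show φ x ∈ A
        rw [show φ x = 1 by rw [← MonoidHom.mem_ker, hker]; exact hx]; exact A.one_mem, hx.1⟩
      refine Group.isSolvable_of_ker_le_range (Subgroup.inclusion hNP)
        ((φ.comp P1.subtype).codRestrict A fun x => x.2.1) fun x hx => ?_
      refine ⟨⟨(x : Y), ?_⟩, Subtype.ext rfl⟩
      rw [← hker]
      exact congrArg Subtype.val hx
    haveI : Group.IsSolvable (P1.subgroupOf E) :=
      Group.isSolvable_of_surjective (f := (subgroupOfEquivOfLe hP1E).symm.toMonoidHom) (MulEquiv.surjective _)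
    have h1 := CfsgLib.Components.layer_commutes_solvable_invariant (G := E) (H := P1.subgroupOf E) inferInstance
      (fun x _ => mem_normalizer_iff.2 fun y => mem_normalizer_iff.1 (hEP1 x.2) y)
    rw [hlay, commutator_eq_bot_iff_le_centralizer] at h1
    refine le_bot_iff.1 fun a ha => ?_
    obtain ⟨x, hx, rfl⟩ := mem_map.1 (hAE ha)
    have hxN : x ∈ N := ⟨hx, mem_centralizer_iff.2 fun y hy =>
      (congrArg Subtype.val (mem_centralizer_iff.1 (h1 (mem_top ⟨y, hy⟩)) ⟨x, hx⟩ ⟨ha, hx⟩)).symm⟩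
    rw [← hker, MonoidHom.mem_ker] at hxN
    rw [hxN]; exact one_mem _
  have hsit : Sit p r G1 R1 := by
    refine ⟨hp5, hr, hcard1, ?_, ?_, le_sup_right.trans hnG1,
      fun hd => hndvd ((hd.trans (card_dvd_of_le hG1E1)).trans (Subgroup.card_map_dvd E φ)), ?_,
      CfsgLib.Core.commutator_commutator_eq hR1E1 hcop1 (Or.inl hsolvR), ?_⟩
    · intro _ ha'
      obtain ⟨a, ha, rfl⟩ := mem_map.1 ha'
      rw [← map_pow, hexp a ha, map_one]
    · intro _ ha' _ hb'
      obtain ⟨a, ha, rfl⟩ := mem_map.1 ha'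
      obtain ⟨b, hb, rfl⟩ := mem_map.1 hb'
      rw [← map_mul, ← map_mul, hcomm a ha b hb]
    · intro _ ha' ha1 g hg hgc
      obtain ⟨a, ha, rfl⟩ := mem_map.1 ha'
      have ha1' : a ≠ 1 := fun e => ha1 (by rw [e, map_one])
      have hn : fixOf E1 (φ a) ≤ normalizer (fixOf G1 (φ a) : Set (Y ⧸ N)) :=
        (le_inf (inf_le_left.trans (le_sup_left.trans hnG1)) (inf_le_right.trans le_normalizer)).trans
          inf_normalizer_le_normalizer_inf
      have hg1 : g ∈ fstarOf (fixOf E1 (φ a)) :=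
        fstarOf_le_of_normal (inf_le_inf_right _ hG1E1 : fixOf G1 (φ a) ≤ fixOf E1 (φ a)) hn hg
      have heq : fixOf E1 (φ a) = (fixOf E a).map φ := by
        refine le_antisymm (fun x hx => ?_) (fun x hx => ?_)
        · have hz : x ∈ E.map φ ⊓ centralizer ((zpowers a).map φ : Set (Y ⧸ N)) := ⟨hx.1, by
            rw [MonoidHom.map_zpowers]
            refine mem_centralizer_iff.2 fun y hy => ?_
            obtain ⟨i, rfl⟩ := mem_zpowers_iff.1 hy
            exact (show Commute x (φ a) from mem_centralizer_singleton_iff.1 hx.2).zpow_right i |>.eq.symm⟩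
          obtain ⟨w, hw, rfl⟩ := map_fixed φ ((zpowers_le.2 ha).trans hRE)
            (hcop.coprime_dvd_left (card_dvd_of_le (zpowers_le.2 ha))) hz
          exact mem_map_of_mem φ (mem_fixOf.2 ⟨hw.1, (mem_centralizer_iff.1 hw.2 a (mem_zpowers a)).symm⟩)
        · obtain ⟨w, hw, rfl⟩ := hx
          refine mem_fixOf.2 ⟨mem_map_of_mem φ hw.1, ?_⟩
          rw [← map_mul, ← map_mul, (mem_fixOf.1 hw).2]
      rw [heq] at hg1
      obtain ⟨g', hg', hgg⟩ := mem_map.1 hg1
      have hfk : (φ.subgroupMap (fixOf E a)).ker ≤ Subgroup.center (fixOf E a) := fun x hx =>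
        Subgroup.mem_center_iff.2 fun y => Subtype.ext (by
          have hxN : (x : Y) ∈ N := by rw [← hker]; exact congrArg Subtype.val hx
          exact mem_centralizer_iff.1 hxN.2 y y.2.1)
      obtain ⟨x, hx, hxg⟩ := mem_map.1 (gFitting_central_le _ (φ.subgroupMap_surjective _) hfk hg')
      have hxy : φ (x : Y) = g := by
        rw [← hgg, ← hxg]; rfl
      obtain ⟨k, hk⟩ := CfsgLib.Transfer.exists_pow_prime_pow_coprime (p := p) (x : Y)
      obtain ⟨u, hu⟩ := exists_pow_eq_self_of_coprime (x := g) (n := p ^ k) ((hgc.symm).pow_left k)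
      have hfix := hyp a ha ha1' (((x : Y) ^ p ^ k) ^ u) (Subgroup.pow_mem _ (Subgroup.pow_mem _
        (mem_map_of_mem _ hx) _) _) (Nat.Coprime.coprime_dvd_left (orderOf_pow_dvd u) hk)
      refine mem_centralizer_iff.2 fun y hy => ?_
      obtain ⟨b, hb, rfl⟩ := hy
      rw [← hu, ← hxy, ← map_pow, ← map_pow, ← map_mul, ← map_mul, mem_centralizer_iff.1 hfix b hb]
    · refine hsolv _ (inf_le_left.trans hG1E1) ?_ (Group.isSolvable_of_comm fun a b =>
        Subtype.ext (mem_centralizer_iff.1 b.2.2 a a.2.1))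
      exact (le_inf (le_sup_left.trans hnG1) ((le_sup_left.trans hnG1).trans (normalizer_le_centralizer' G1))).trans
        inf_normalizer_le_normalizer_inf
  have hcon := hsit.constrained hS
  have hD : coreOf p G1 = ⊥ := by
    refine hsolv _ (coreOf_le.trans hG1E1) ((le_sup_left.trans hnG1).trans normalizer_le_coreOf) ?_
    haveI := (coreOf_isPGroup (p := p) (G := G1)).isNilpotent
    infer_instance
  have hG1bot : G1 = ⊥ := by
    by_contra hne
    haveI := (Subgroup.nontrivial_iff_ne_bot G1).2 hne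
    refine CfsgLib.Components.gFitting_ne_bot (G := G1) (le_bot_iff.1 fun x hx => ?_)
    have := hcon (mem_map_of_mem G1.subtype hx)
    rw [hD, mem_bot] at this
    exact mem_bot.2 (Subtype.ext this)
  have hle : ⁅E, R⁆ ≤ centralizer (E : Set Y) := by
    have h1 : (⁅E, R⁆).map φ = ⊥ := by rw [Subgroup.map_commutator]; exact hG1bot
    rw [Subgroup.map_eq_bot_iff, hker] at h1
    exact h1.trans inf_le_right
  have e1 : ⁅⁅E, R⁆, E⁆ = ⊥ := commutator_eq_bot_iff_le_centralizer.2 hle
  have e2 : ⁅⁅R, E⁆, E⁆ = ⊥ := by rwa [commutator_comm R E]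
  have e3 := commutator_commutator_eq_bot_of_rotate e1 e2
  rwa [hperf, commutator_eq_bot_iff_le_centralizer] at e3

theorem exists_rank_two (hr : r.Prime) (hR : IsPGroup r R) (hab : ∀ a ∈ R, ∀ b ∈ R, a * b = b * a)
    (hnc : ¬ IsCyclic R) : ∃ R0 ≤ R, Nat.card R0 = r ^ 2 ∧ ∀ a ∈ R0, a ^ r = 1 := by
  haveI : IsMulCommutative R := ⟨⟨fun a b => Subtype.ext (hab a a.2 b b.2)⟩⟩
  haveI := Fact.mk hr
  obtain ⟨q, hq, A, hAR, hexp, hcard⟩ := CfsgLib.Core.exists_elementary_of_not_isCyclic R hnc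
  obtain ⟨m, hm⟩ := (hR.to_le hAR).exists_card_eq
  have h4 : 1 < Nat.card A := lt_of_lt_of_le (Nat.one_lt_pow (by norm_num) hq.one_lt) hcard
  haveI : Nontrivial A := Finite.one_lt_card_iff_nontrivial.1 h4
  obtain ⟨x, hx⟩ := exists_ne (1 : A)
  have hqr : q = r := by
    obtain ⟨k, hk⟩ := (hR.to_le hAR) x
    have h1 := Nat.dvd_gcd (orderOf_dvd_of_pow_eq_one (x := x) (n := q) (Subtype.ext (hexp x x.2)))
      (orderOf_dvd_of_pow_eq_one hk)
    by_contra hne
    rw [(((Nat.coprime_primes hq hr).2 hne).pow_right k : q.Coprime (r ^ k)), Nat.dvd_one, orderOf_eq_one_iff] at h1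
    exact hx h1
  subst hqr
  have h2m : 2 ≤ m := by
    rw [hm] at hcard
    exact (Nat.pow_le_pow_iff_right hr.one_lt).1 hcard
  obtain ⟨K, hK⟩ := Sylow.exists_subgroup_card_pow_prime q (G := A) (n := 2) (hm ▸ pow_dvd_pow q h2m)
  refine ⟨K.map A.subtype, (map_subtype_le _).trans hAR, ?_, fun a ha => hexp a (map_subtype_le _ ha)⟩
  rw [Subgroup.card_map_of_injective A.subtype_injective, hK]

/-- The operators centralise the elements of order prime to `p` of the generalised Fitting subgroup. -/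
theorem residual_fixed (hS : CfsgLib.ShultDep.Shult.{0}) (hp5 : 5 ≤ p) (hr : r.Prime) (hR : IsPGroup r R)
    (hnd : ¬ r ∣ Nat.card G) (hRG : R ≤ normalizer (G : Set X)) (hab : ∀ a ∈ R, ∀ b ∈ R, a * b = b * a)
    (hnc : ¬ IsCyclic R)
    (hloc : ∀ a ∈ R, a ≠ 1 → ∀ g ∈ fstarOf (fixOf G a), (orderOf g).Coprime p → g ∈ centralizer (R : Set X)) :
    ∀ g ∈ fstarOf G, (orderOf g).Coprime p → g ∈ centralizer (R : Set X) := by
  obtain ⟨R0, hR0R, hR0c, hR0e⟩ := exists_rank_two hr hR hab hnc
  haveI := Fact.mk hr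
  haveI : IsMulCommutative R0 := ⟨⟨fun a b => Subtype.ext (hab a (hR0R a.2) b (hR0R b.2))⟩⟩
  have hgen : ∀ {K S : Subgroup X}, K ≤ G → R ≤ normalizer (K : Set X) →
      (∀ a ∈ R0, a ≠ 1 → K ⊓ centralizer ({a} : Set X) ≤ S) → K ≤ S := fun hK hKn hh =>
    CfsgLib.LocalEven.le_of_centralizers_le hR0e hR0c.ge (hR0R.trans hKn)
      (fun hd => hnd (hd.trans (card_dvd_of_le hK))) hh
  have hfixn : ∀ {K : Subgroup X} (a : X), G ≤ normalizer (K : Set X) →
      fixOf G a ≤ normalizer (fixOf K a : Set X) := fun a hn =>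
    (le_inf (inf_le_left.trans hn) (inf_le_right.trans le_normalizer)).trans inf_normalizer_le_normalizer_inf
  have hq : ∀ q : ℕ, q.Prime → q ≠ p → coreOf q G ≤ centralizer (R : Set X) := by
    intro q hq hqp
    haveI := Fact.mk hq
    refine hgen coreOf_le (hRG.trans normalizer_le_coreOf) fun a ha ha1 x hx => ?_
    refine hloc a (hR0R ha) ha1 x ?_ (coprime_orderOf_of_isPGroup hqp coreOf_isPGroup hx.1)
    exact coreOf_le_fstarOf (le_pCore_map (inf_le_inf_right _ coreOf_le : fixOf (coreOf q G) a ≤ fixOf G a)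
      (hfixn a (le_normalizer.trans normalizer_le_coreOf)) (coreOf_isPGroup.to_le inf_le_left) hx)
  have hE : layOf G ≤ centralizer (R : Set X) := by
    set E := layOf G with hEdef
    have hEG : E ≤ G := layOf_le
    have hGE : G ≤ normalizer (E : Set X) := le_normalizer.trans normalizer_le_layOf
    have hlayE : Cfsg.layer E = ⊤ := layer_layOf
    set Y := normalizer (E : Set X) with hY
    have hEY : E ≤ Y := le_normalizer
    have hR0Y : R0 ≤ Y := hR0R.trans (hRG.trans normalizer_le_layOf)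
    have hfix0 : E.subgroupOf Y ≤ centralizer (R0.subgroupOf Y : Set Y) := by
      refine layer_fixed (p := p) hS hp5 hr (E.subgroupOf Y) (R0.subgroupOf Y)
        ((normal_subgroupOf_iff_le_normalizer hEY).2 le_rfl) ?_ ?_ ?_ ?_ ?_ ?_ ?_
      · rw [← CfsgLib.Components.layer_map_equiv (subgroupOfEquivOfLe hEY).symm, hlayE]
        exact map_top_of_surjective _ (MulEquiv.surjective _)
      · apply map_injective Y.subtype_injective
        rw [Subgroup.map_commutator, map_subgroupOf_eq_of_le hEY, hEdef, layOf_perfect]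
      · rw [Nat.card_congr (subgroupOfEquivOfLe hR0Y).toEquiv, hR0c]
      · exact fun a ha => Subtype.ext (hR0e a ha)
      · exact fun a ha b hb => Subtype.ext (hab a (hR0R ha) b (hR0R hb))
      · rw [Nat.card_congr (subgroupOfEquivOfLe hEY).toEquiv]
        exact fun hd => hnd (hd.trans (card_dvd_of_le hEG))
      · intro a ha ha1 g hg hgc
        have h1 := mem_map_of_mem Y.subtype hg
        rw [map_fstarOf Y.subtype Y.subtype_injective] at h1
        have heq : (fixOf (E.subgroupOf Y) a).map Y.subtype = fixOf E (a : X) := by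
          refine le_antisymm (fun x hx => ?_) fun x hx => ?_
          · obtain ⟨y, hy, rfl⟩ := hx
            exact mem_fixOf.2 ⟨hy.1, congrArg Subtype.val (mem_fixOf.1 hy).2⟩
          · exact ⟨⟨x, hEY hx.1⟩, mem_fixOf.2 ⟨hx.1, Subtype.ext (mem_fixOf.1 hx).2⟩, rfl⟩
        rw [heq] at h1
        have h2 := hloc (a : X) (hR0R ha) (fun e => ha1 (Subtype.ext e)) _
          (fstarOf_le_of_normal (inf_le_inf_right _ hEG) (hfixn (a : X) hGE) h1)
          (by rwa [coe_subtype, Subgroup.orderOf_coe])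
        exact mem_centralizer_iff.2 fun b hb => Subtype.ext (mem_centralizer_iff.1 h2 b (hR0R hb))
    haveI : Nontrivial R0 := Finite.one_lt_card_iff_nontrivial.1 (hR0c ▸ Nat.one_lt_pow (by norm_num) hr.one_lt)
    obtain ⟨⟨a, ha⟩, ha1⟩ := exists_ne (1 : R0)
    have hEa : E ≤ fixOf G a := fun x hx => mem_fixOf.2 ⟨hEG hx,
      (congrArg Subtype.val (mem_centralizer_iff.1 (hfix0 (show (⟨x, hEY hx⟩ : Y) ∈ E.subgroupOf Y from hx))
        ⟨a, hR0Y ha⟩ ha)).symm⟩
    refine CfsgLib.Components.perfect_le_of_coprime (p := p) layOf_perfect fun x hx hc =>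
      hloc a (hR0R ha) (fun e => ha1 (Subtype.ext e)) x
        (fstarOf_le_of_normal hEa (inf_le_left.trans hGE) ?_) hc
    have : fstarOf E = E := by
      rw [fstarOf, Cfsg.generalizedFittingSubgroup, hlayE, top_sup_eq, ← MonoidHom.range_eq_map, range_subtype]
    rw [this]; exact hx
  intro g hg hgc
  obtain ⟨x, hx, rfl⟩ := hg
  set O := Cfsg.pCore p G with hO
  set T := (centralizer (R : Set X)).comap G.subtype ⊓ centralizer (O : Set G) with hT
  have hle : Cfsg.generalizedFittingSubgroup G ≤ T ⊔ O := by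
    rw [Cfsg.generalizedFittingSubgroup]
    refine sup_le (le_sup_of_le_left (le_inf (fun y hy => hE (mem_map_of_mem _ hy)) ?_)) ?_
    · exact (commutator_eq_bot_iff_le_centralizer.1 CfsgLib.Components.layer_commutes_fitting).trans
        (centralizer_le fun y hy => CfsgLib.Core.pCore_le_fittingSubgroup p hy)
    · rw [CfsgLib.Core.fittingSubgroup_eq_iSup_pCore]
      refine iSup_le fun q => ?_
      rcases eq_or_ne (q : ℕ) p with e | e
      · rw [e]; exact le_sup_right
      refine le_sup_of_le_left (le_inf (fun y hy => hq q q.2 e (mem_map_of_mem _ hy)) fun y hy => ?_)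
      exact mem_centralizer_iff.2 fun z hz =>
        (CfsgLib.Core.commute_pCore_pCore Fact.out q.2 (Ne.symm e) z hz y hy)
  haveI : O.Normal := CfsgLib.Components.pCore_normal p
  obtain ⟨t, ht, d, hd, rfl⟩ := mem_sup_of_normal_right.1 (hle hx)
  have hdt : d * t = t * d := mem_centralizer_iff.1 ht.2 d hd
  set n := orderOf (G.subtype (t * d)) with hn
  have h1 : (t * d) ^ n = 1 := G.subtype_injective (by rw [map_pow, hn, pow_orderOf_eq_one, map_one])
  rw [(show Commute t d from hdt.symm).mul_pow] at h1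
  have h2 : d ^ n ∈ T := by
    rw [show d ^ n = (t ^ n)⁻¹ from eq_inv_of_mul_eq_one_right h1]
    exact T.inv_mem (T.pow_mem ht n)
  obtain ⟨k, hk⟩ := CfsgLib.Core.isPGroup_pCore p G ⟨d, hd⟩
  obtain ⟨m, hm⟩ := exists_pow_eq_self_of_coprime (x := d) (n := n) (Nat.Coprime.coprime_dvd_right
    (orderOf_dvd_of_pow_eq_one (congrArg Subtype.val hk : d ^ p ^ k = 1)) (hgc.pow_right k))
  exact ((T.mul_mem ht (hm ▸ T.pow_mem h2 m)) : t * d ∈ T).1

end CfsgLib.Flavell
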